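import Mathlib
import Groth.Prelude.Def_ProEtDC
import Groth.Agent.ProEtLib.Cover

/-!
Sections over weakly contractible objects and free sheaves of modules on the pro-etale site.
-/

universe u

open CategoryTheory CategoryTheory.Limits AlgebraicGeometry Opposite

namespace Groth.Agent.ProEtDCLib

set_option backward.isDefEq.respectTransparency.types false
set_option backward.isDefEq.respectTransparency false

variable (Λ : Type (u + 1)) [CommRing Λ] {X : Scheme.{u}}

/-- sections over an object -/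
abbrev sec (V : X.ProEt) : EtModW.ModP Λ X ⥤ ModuleCat.{u + 1} Λ :=
  sheafToPresheaf (Scheme.ProEt.topology X) (ModuleCat.{u + 1} Λ) ⋙ (evaluation _ _).obj (op V)

/-- free sheaves: the left adjoint of sections -/
noncomputable abbrev freeP (V : X.ProEt) : ModuleCat.{u + 1} Λ ⥤ EtModW.ModP Λ X :=
  evaluationLeftAdjoint (ModuleCat.{u + 1} Λ) (op V) ⋙ presheafToSheaf _ _

/-- the adjunction between free sheaves and sections -/
noncomputable def freeAdj (V : X.ProEt) : freeP Λ V ⊣ sec Λ V :=
  (evaluationAdjunctionRight (ModuleCat.{u + 1} Λ) (op V)).comp (sheafificationAdjunction _ _)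

instance (V : X.ProEt) : (sec Λ V).Additive where

instance (V : X.ProEt) : (sec Λ V).IsRightAdjoint := ⟨_, ⟨freeAdj Λ V⟩⟩

instance (V : X.ProEt) : (freeP Λ V).IsLeftAdjoint := ⟨_, ⟨freeAdj Λ V⟩⟩

instance (V : X.ProEt) : (freeP Λ V).Additive := (freeAdj Λ V).left_adjoint_additive

theorem sec_map_smul (V : X.ProEt) {F G : EtModW.ModP Λ X} (a : Λ) (φ : F ⟶ G) :
    (sec Λ V).map (a • φ) = a • (sec Λ V).map φ := rfl

theorem smulHom_eq (F : EtModW.ModP Λ X) (a : Λ) : ProEtDC.smulHom Λ F a = a • 𝟙 F := rfl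

theorem freeP_map_smul_id (V : X.ProEt) (a : Λ) (N : ModuleCat.{u + 1} Λ) :
    (freeP Λ V).map (a • 𝟙 N) = a • 𝟙 _ := by
  apply ((freeAdj Λ V).homEquiv _ _).injective
  rw [Adjunction.homEquiv_unit, Adjunction.homEquiv_unit, sec_map_smul, CategoryTheory.Functor.map_id,
    Linear.comp_smul]
  erw [Category.comp_id]
  refine ((freeAdj Λ V).unit.naturality (a • 𝟙 N)).symm.trans ?_
  simp [Linear.smul_comp]

/-- weakly contractible objects: epimorphisms are surjective on sections -/
theorem sec_surjective {V : X.ProEt} (hV : ProEtS.IsWC V) {F G : EtModW.ModP Λ X} (φ : F ⟶ G)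
    [Epi φ] : Function.Surjective ((sec Λ V).map φ) := by
  have : Sheaf.IsLocallySurjective φ := (Sheaf.isLocallySurjective_iff_epi' _ φ).2 inferInstance
  exact hV _ _ ((sheafCompose _ (forget (ModuleCat.{u + 1} Λ))).map φ)
    ((Sheaf.isLocallySurjective_iff_epi _).1 inferInstance)

theorem preservesEpi_sec {V : X.ProEt} (hV : ProEtS.IsWC V) :
    (sec Λ V).PreservesEpimorphisms :=
  ⟨fun f _ => (ModuleCat.epi_iff_surjective _).2 (sec_surjective Λ hV f)⟩

theorem preservesHomology_sec {V : X.ProEt} (hV : ProEtS.IsWC V) :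
    (sec Λ V).PreservesHomology :=
  have := preservesEpi_sec Λ hV
  Functor.preservesHomology_of_preservesEpis_and_kernels _

variable {Λ}

theorem sec_injective_of_wc {F G : EtModW.ModP Λ X} (φ : F ⟶ G)
    (h : ∀ V : X.ProEt, ProEtS.IsWC V → Function.Injective ((sec Λ V).map φ)) (U : X.ProEt) :
    Function.Injective ((sec Λ U).map φ) := by
  intro a b hab
  obtain ⟨V, g, hg, hV⟩ := ProEtLib.exists_wc_cover U
  have hF := (((isSheaf_iff_isSheaf_of_type _ _).1 ((sheafCompose _ (forget (ModuleCat.{u + 1} Λ))).obj F).2) _ hg)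
  refine ((Presieve.isSheafFor_iff_generate _).2 hF).isSeparatedFor.ext ?_
  rintro _ _ ⟨⟩
  apply h V hV
  refine (NatTrans.naturality_apply φ.hom g.op a).trans (.trans ?_ (NatTrans.naturality_apply φ.hom g.op b).symm)
  exact congrArg _ hab

theorem epi_of_wc {F G : EtModW.ModP Λ X} (φ : F ⟶ G)
    (h : ∀ V : X.ProEt, ProEtS.IsWC V → Function.Surjective ((sec Λ V).map φ)) : Epi φ := by
  refine (Sheaf.isLocallySurjective_iff_epi' _ φ).1 ⟨fun {U} s => ?_⟩
  obtain ⟨V, g, hg, hV⟩ := ProEtLib.exists_wc_cover U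
  refine (Scheme.ProEt.topology X).superset_covering ?_ hg
  rintro W _ ⟨V', a, b, ⟨⟩, rfl⟩
  obtain ⟨t, ht⟩ := h V hV (G.obj.map g.op s)
  refine ⟨F.obj.map a.op t, ?_⟩
  refine (NatTrans.naturality_apply φ.hom a.op t).trans ?_
  rw [op_comp, Functor.map_comp_apply]
  exact congrArg _ ht

theorem isIso_of_wc {F G : EtModW.ModP Λ X} (φ : F ⟶ G)
    (h : ∀ V : X.ProEt, ProEtS.IsWC V → Function.Bijective ((sec Λ V).map φ)) : IsIso φ := by
  have := epi_of_wc φ fun V hV => (h V hV).2
  have : Mono φ := (sheafToPresheaf _ _).mono_of_mono_map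
    ((NatTrans.mono_iff_mono_app _).2 fun U => (ModuleCat.mono_iff_injective _).2
      (sec_injective_of_wc φ (fun V hV => (h V hV).1) U.unop))
  exact isIso_of_mono_of_epi φ

theorem isZero_of_wc (F : EtModW.ModP Λ X)
    (h : ∀ V : X.ProEt, ProEtS.IsWC V → ∀ x : (sec Λ V).obj F, x = 0) : IsZero F := by
  have : IsIso (0 : F ⟶ F) := isIso_of_wc _ fun V hV =>
    ⟨fun a b _ => (h V hV a).trans (h V hV b).symm, fun y => ⟨0, by simp [h V hV y]⟩⟩
  have h0 := IsIso.hom_inv_id (0 : F ⟶ F)
  rw [zero_comp] at h0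
  exact (IsZero.iff_id_eq_zero F).2 h0.symm

variable (Λ)

/-- free sheaves on weakly contractible objects are projective -/
theorem projective_freeP {V : X.ProEt} (hV : ProEtS.IsWC V) (N : ModuleCat.{u + 1} Λ)
    [Projective N] : Projective ((freeP Λ V).obj N) :=
  have := preservesEpi_sec Λ hV
  (freeAdj Λ V).map_projective N inferInstance

/-- free sheaves preserve monomorphisms -/
theorem mono_freeP_map (V : X.ProEt) {M N : ModuleCat.{u + 1} Λ} (f : M ⟶ N) [Mono f] :
    Mono ((freeP Λ V).map f) := by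
  have : Mono ((evaluationLeftAdjoint (ModuleCat.{u + 1} Λ) (op V)).map f) := by
    refine (NatTrans.mono_iff_mono_app _).2 fun W => ?_
    let J := op V ⟶ W
    let α : Discrete.functor (fun _ : J => M) ⟶ Discrete.functor (fun _ : J => N) :=
      Discrete.natTrans fun _ => f
    have : ∀ j, Mono (α.app j) := fun _ => inferInstanceAs (Mono f)
    have : Mono α := NatTrans.mono_of_mono_app _
    have : HasColimitsOfSize.{u, u} (ModuleCat.{u + 1} Λ) :=
      hasColimitsOfSizeShrink.{u, u, u + 1, u + 1} _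
    have : HasCoproducts.{u} (ModuleCat.{u + 1} Λ) := fun _ => inferInstance
    have : AB4OfSize.{u} (ModuleCat.{u + 1} Λ) := AB4OfSize_shrink.{u, u + 1} _
    have : HasExactColimitsOfShape (Discrete J) (ModuleCat.{u + 1} Λ) := AB4OfSize.ofShape J
    have hm : Mono (colim.map α) := colim.map_mono α
    show Mono (((evaluationLeftAdjoint (ModuleCat.{u + 1} Λ) (op V)).map f).app W)
    have e : (((evaluationLeftAdjoint (ModuleCat.{u + 1} Λ) (op V)).map f).app W :
        colimit (Discrete.functor (fun _ : J => M)) ⟶ colimit (Discrete.functor (fun _ : J => N))) =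
        colim.map α := by
      apply colimit.hom_ext
      intro j
      simp [α, evaluationLeftAdjoint, J]
    exact e ▸ hm
  exact (presheafToSheaf _ _).map_mono _

/-- `locExt` is the free sheaf on the localization -/
noncomputable def locExtIso (U : X.ProEt) (f : Λ) :
    (freeP Λ U).obj (ModuleCat.of Λ (Localization.Away f)) ≅ ProEtDC.locExt Λ U f :=
  let adj := (constantSheafAdj ((Scheme.ProEt.topology X).over U) (ModuleCat.{u + 1} Λ)
    (T := Over.mk (𝟙 U)) Over.mkIdTerminal).comp
    ((Over.forget U).sheafAdjunctionContinuous (ModuleCat.{u + 1} Λ)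
      ((Scheme.ProEt.topology X).over U) (Scheme.ProEt.topology X))
  ((freeAdj Λ U).leftAdjointUniq adj).app _

/-- `f` is invertible on `locExt U f` -/
theorem isIso_smul_locExt (U : X.ProEt) (f : Λ) : IsIso (f • 𝟙 (ProEtDC.locExt Λ U f)) := by
  have hN : IsIso (f • 𝟙 (ModuleCat.of Λ (Localization.Away f))) := by
    rw [ConcreteCategory.isIso_iff_bijective]
    have hu := IsLocalization.Away.algebraMap_isUnit (S := Localization.Away f) f
    refine ⟨fun a b h => hu.mul_left_cancel ?_, fun y => ⟨IsLocalization.Away.invSelf f * y, ?_⟩⟩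
    · simpa [Algebra.smul_def] using h
    · show f • (IsLocalization.Away.invSelf f * y) = y
      rw [Algebra.smul_def, ← mul_assoc, IsLocalization.Away.mul_invSelf, one_mul]
  have h1 : IsIso (f • 𝟙 ((freeP Λ U).obj (ModuleCat.of Λ (Localization.Away f)))) := by
    rw [← freeP_map_smul_id]; infer_instance
  have e : f • 𝟙 (ProEtDC.locExt Λ U f) = (locExtIso Λ U f).inv ≫
      (f • 𝟙 ((freeP Λ U).obj (ModuleCat.of Λ (Localization.Away f)))) ≫ (locExtIso Λ U f).hom := by
    simp [Linear.smul_comp, Linear.comp_smul]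
  rw [e]
  infer_instance

end Groth.Agent.ProEtDCLib
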