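import Mathlib

/-!
Derived completeness of modules with respect to one element `f`, in the form
"`(x n) ↦ (x n - f • x (n+1))` is bijective".
-/

universe u v w

open CategoryTheory

namespace Groth.Agent.ProEtDCLib

variable {Λ : Type u} [CommRing Λ]

section

variable {M : Type v} [AddCommGroup M] [Module Λ M] {N : Type w} [AddCommGroup N] [Module Λ N]

/-- the shift-difference map on sequences -/
def delta (f : Λ) (x : ℕ → M) : ℕ → M := fun n => x n - f • x (n + 1)

theorem delta_map (f : Λ) (g : M →ₗ[Λ] N) (x : ℕ → M) :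
    delta f (fun n => g (x n)) = fun n => g (delta f x n) := by
  funext n; simp [delta]

theorem delta_sub (f : Λ) (x y : ℕ → M) : delta f (x - y) = delta f x - delta f y := by
  funext n; simp only [delta, Pi.sub_apply, smul_sub]; abel

theorem delta_add (f : Λ) (x y : ℕ → M) : delta f (x + y) = delta f x + delta f y := by
  funext n; simp only [delta, Pi.add_apply, smul_add]; abel

/-- derived completeness with respect to `f` -/
def DCM (f : Λ) (M : Type v) [AddCommGroup M] [Module Λ M] : Prop :=
  Function.Bijective (delta f : (ℕ → M) → ℕ → M)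

theorem DCM.eq_zero {f : Λ} (h : DCM f M) {x : ℕ → M} (hx : ∀ n, x n = f • x (n + 1)) : x = 0 :=
  h.1 (funext fun n => by simp [delta, sub_eq_zero.2 (hx n)])

theorem DCM.congr {f : Λ} (e : M ≃ₗ[Λ] N) (h : DCM f M) : DCM f N := by
  refine ⟨fun x y hxy => ?_, fun y => ?_⟩
  · have := h.1 (a₁ := fun n => e.symm (x n)) (a₂ := fun n => e.symm (y n))
      (funext fun n => e.injective (by
        simpa [delta] using congrFun hxy n))
    funext n
    exact e.symm.injective (congrFun this n)
  · obtain ⟨x, hx⟩ := h.2 fun n => e.symm (y n)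
    refine ⟨fun n => e (x n), funext fun n => e.symm.injective ?_⟩
    simpa [delta] using congrFun hx n

theorem DCM.of_subsingleton (f : Λ) [Subsingleton M] : DCM f M :=
  ⟨fun _ _ _ => Subsingleton.elim _ _, fun y => ⟨0, Subsingleton.elim _ _⟩⟩

/-- nilpotent action gives derived completeness -/
theorem DCM.of_pow_smul_eq_zero {f : Λ} {k : ℕ} (h : ∀ m : M, f ^ k • m = 0) : DCM f M := by
  refine ⟨fun x y hxy => ?_, fun y => ⟨fun n => ∑ j ∈ Finset.range k, f ^ j • y (n + j), ?_⟩⟩
  · have h1 : ∀ n, (x - y) n = f • (x - y) (n + 1) := fun n => by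
      have h0 : delta f (x - y) = 0 := by rw [delta_sub, hxy, sub_self]
      exact sub_eq_zero.1 (congrFun h0 n)
    have h2 : ∀ j n, (x - y) n = f ^ j • (x - y) (n + j) := by
      intro j
      induction j with
      | zero => simp
      | succ j ih =>
        intro n
        rw [ih n, h1 (n + j), smul_smul, ← pow_succ, Nat.add_assoc]
    funext n
    have := h2 k n
    rw [h] at this
    exact sub_eq_zero.1 this
  · funext n
    simp only [delta, Finset.smul_sum, smul_smul, ← pow_succ']
    rw [← Finset.sum_sub_distrib]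
    have := Finset.sum_range_sub' (fun j => f ^ j • y (n + j)) k
    simp only [add_assoc, add_comm 1] 
    rw [this, h, sub_zero, pow_zero, one_smul, add_zero]

variable {M₁ M₂ M₃ : Type*} [AddCommGroup M₁] [Module Λ M₁] [AddCommGroup M₂] [Module Λ M₂]
  [AddCommGroup M₃] [Module Λ M₃]

theorem DCM.middle {f : Λ} (i : M₁ →ₗ[Λ] M₂) (p : M₂ →ₗ[Λ] M₃) (hi : Function.Injective i)
    (hp : Function.Surjective p) (hip : Function.Exact i p) (h₁ : DCM f M₁) (h₃ : DCM f M₃) :
    DCM f M₂ := by
  have hker : ∀ x : ℕ → M₂, delta f x = 0 → x = 0 := fun x hx => by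
    have h0 : (fun n => p (x n)) = 0 := h₃.eq_zero fun n => by
      have := congrArg p (sub_eq_zero.1 (congrFun hx n))
      simpa using this
    choose z hz using fun n => (hip (x n)).1 (congrFun h0 n)
    have : z = 0 := h₁.eq_zero fun n => hi (by
      rw [map_smul, hz, hz]; exact sub_eq_zero.1 (congrFun hx n))
    funext n
    rw [← hz n, this]; simp
  refine ⟨fun x y hxy => sub_eq_zero.1 (hker _ (by rw [delta_sub, hxy, sub_self])), fun y => ?_⟩
  obtain ⟨a, ha⟩ := h₃.2 fun n => p (y n)
  choose b hb using fun n => hp (a n)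
  have hz : ∀ n, p ((y - delta f b) n) = 0 := fun n => by
    have := congrFun ha n
    simp only [delta, Pi.sub_apply, map_sub, map_smul, hb] at this ⊢
    rw [← this, sub_self]
  choose z hz' using fun n => (hip _).1 (hz n)
  obtain ⟨c, hc⟩ := h₁.2 z
  refine ⟨b + fun n => i (c n), ?_⟩
  rw [delta_add, delta_map f i c, hc]
  funext n
  simp [hz' n]

theorem DCM.ker {f : Λ} (i : M₁ →ₗ[Λ] M₂) (p : M₂ →ₗ[Λ] M₃) (hi : Function.Injective i)
    (hip : Function.Exact i p) (h₂ : DCM f M₂) (h₃ : DCM f M₃) : DCM f M₁ := by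
  refine ⟨fun x y hxy => ?_, fun y => ?_⟩
  · have := h₂.1 (a₁ := fun n => i (x n)) (a₂ := fun n => i (y n))
      (by rw [delta_map f i x, delta_map f i y, hxy])
    funext n; exact hi (congrFun this n)
  · obtain ⟨x, hx⟩ := h₂.2 fun n => i (y n)
    have h0 : (fun n => p (x n)) = 0 := h₃.eq_zero fun n => by
      have := congrArg p (congrFun hx n)
      simp only [delta, map_sub, map_smul, hip.apply_apply_eq_zero] at this
      exact sub_eq_zero.1 this
    choose z hz using fun n => (hip (x n)).1 (congrFun h0 n)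
    refine ⟨z, funext fun n => hi ?_⟩
    rw [← congrFun hx n, ← congrFun (delta_map f i z) n]
    simp [hz]

theorem DCM.coker {f : Λ} (g : M₁ →ₗ[Λ] M₂) (p : M₂ →ₗ[Λ] M₃) (hp : Function.Surjective p)
    (hgp : Function.Exact g p) (h₁ : DCM f M₁) (h₂ : DCM f M₂) : DCM f M₃ := by
  have hker : ∀ x : ℕ → M₃, delta f x = 0 → x = 0 := fun x hx => by
    choose a ha using fun n => hp (x n)
    have : ∀ n, p (delta f a n) = 0 := fun n => by
      rw [← congrFun (delta_map f p a) n]
      simpa [ha] using congrFun hx n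
    choose z hz using fun n => (hgp _).1 (this n)
    obtain ⟨c, hc⟩ := h₁.2 z
    have : delta f (a - fun n => g (c n)) = 0 := by
      rw [delta_sub, delta_map f g c, hc]
      funext n; simp [hz n]
    have h0 : a - (fun n => g (c n)) = 0 := h₂.eq_zero fun n => sub_eq_zero.1 (congrFun this n)
    funext n
    rw [← ha n, show a n = g (c n) from sub_eq_zero.1 (congrFun h0 n), hgp.apply_apply_eq_zero]
    rfl
  refine ⟨fun x y hxy => sub_eq_zero.1 (hker _ (by rw [delta_sub, hxy, sub_self])), fun y => ?_⟩
  choose b hb using fun n => hp (y n)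
  obtain ⟨x, hx⟩ := h₂.2 b
  refine ⟨fun n => p (x n), ?_⟩
  rw [delta_map f p x, hx]
  funext n; exact hb n

/-- the kernel of an endomorphism of derived complete modules, cokernel version for `a • M` -/
theorem DCM.quot {f : Λ} (a : Λ) (h : DCM f M) :
    DCM f (M ⧸ LinearMap.range (a • LinearMap.id : M →ₗ[Λ] M)) :=
  DCM.coker (a • LinearMap.id : M →ₗ[Λ] M) (Submodule.mkQ _) (Submodule.mkQ_surjective _)
    (LinearMap.exact_map_mkQ_range _) h h

end

/-- derived Nakayama -/
theorem eq_zero_of_sum_surjective {r : ℕ} : ∀ (a : Fin r → Λ) (M : Type v) [AddCommGroup M]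
    [Module Λ M], (∀ k, DCM (a k) M) → (∀ m : M, ∃ s : Fin r → M, ∑ k, a k • s k = m) →
    ∀ m : M, m = 0 := by
  induction r with
  | zero => intro a M _ _ _ hs m; obtain ⟨s, rfl⟩ := hs m; simp
  | succ r ih =>
    intro a M _ _ hdc hs
    let Q := M ⧸ LinearMap.range (a 0 • LinearMap.id : M →ₗ[Λ] M)
    have hQ : ∀ q : Q, q = 0 := ih (fun k => a k.succ) Q (fun k => (hdc k.succ).quot (a 0)) fun q => by
      obtain ⟨m, rfl⟩ := Submodule.mkQ_surjective _ q
      obtain ⟨s, rfl⟩ := hs m
      refine ⟨fun k => Submodule.mkQ _ (s k.succ), ?_⟩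
      rw [Fin.sum_univ_succ, map_add, map_sum]
      have : Submodule.mkQ (LinearMap.range (a 0 • LinearMap.id : M →ₗ[Λ] M)) (a 0 • s 0) = 0 :=
        (Submodule.Quotient.mk_eq_zero _).2 ⟨s 0, rfl⟩
      rw [this, zero_add]
      simp
    have hdiv : ∀ m : M, ∃ m', a 0 • m' = m := fun m => by
      obtain ⟨m', hm'⟩ := (Submodule.Quotient.mk_eq_zero _).1 (hQ (Submodule.Quotient.mk m))
      exact ⟨m', hm'⟩
    intro m
    choose g hg using hdiv
    have := (hdc 0).eq_zero (x := fun n => g^[n] m) fun n => by
      rw [Function.iterate_succ_apply', hg]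
    exact congrFun this 0

section TwoTerm

/-- the map `e n ↦ e n - f • e (n+1)` -/
noncomputable def dMap (f : Λ) : (ℕ →₀ Λ) →ₗ[Λ] (ℕ →₀ Λ) :=
  Finsupp.linearCombination Λ fun n => Finsupp.single n 1 - f • Finsupp.single (n + 1) (1 : Λ)

/-- the map `e n ↦ f ^ (-n)` -/
noncomputable def qMap (f : Λ) : (ℕ →₀ Λ) →ₗ[Λ] Localization.Away f :=
  Finsupp.linearCombination Λ fun n => IsLocalization.Away.invSelf f ^ n

theorem qMap_single (f : Λ) (n : ℕ) (c : Λ) :
    qMap f (Finsupp.single n c) = c • IsLocalization.Away.invSelf f ^ n := by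
  simp [qMap]

theorem dMap_single (f : Λ) (n : ℕ) (c : Λ) :
    dMap f (Finsupp.single n c) = Finsupp.single n c - Finsupp.single (n + 1) (c * f) := by
  simp [dMap, smul_sub, Finsupp.smul_single]

theorem qMap_dMap (f : Λ) : qMap f ∘ₗ dMap f = 0 := by
  refine Finsupp.lhom_ext fun n c => ?_
  simp only [LinearMap.comp_apply, dMap_single, map_sub, qMap_single, LinearMap.zero_apply]
  rw [sub_eq_zero, pow_succ, mul_smul, Algebra.smul_def f, mul_left_comm,
    IsLocalization.Away.mul_invSelf, mul_one]

theorem qMap_surjective (f : Λ) : Function.Surjective (qMap f) := by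
  intro y
  obtain ⟨⟨c, ⟨_, n, rfl⟩⟩, h⟩ := IsLocalization.surj (Submonoid.powers f) y
  refine ⟨Finsupp.single n c, ?_⟩
  rw [qMap_single, Algebra.smul_def]
  have h1 : algebraMap Λ (Localization.Away f) (f ^ n) * IsLocalization.Away.invSelf f ^ n = 1 := by
    rw [map_pow, ← mul_pow, IsLocalization.Away.mul_invSelf, one_pow]
  calc _ = y * algebraMap Λ (Localization.Away f) (f ^ n) * IsLocalization.Away.invSelf f ^ n := by
        rw [h]
    _ = y := by rw [mul_assoc, h1, mul_one]

theorem dMap_apply (f : Λ) (x : ℕ →₀ Λ) (n : ℕ) :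
    dMap f x n = x n - (match n with | 0 => 0 | m + 1 => x m * f) := by
  induction x using Finsupp.induction_linear with
  | zero => cases n <;> simp
  | add x y hx hy =>
    rw [map_add, Finsupp.add_apply, hx, hy]
    cases n <;> simp [add_mul] <;> abel
  | single m c =>
    rw [dMap_single]
    cases n with
    | zero => simp [Finsupp.single_apply]
    | succ n => simp [Finsupp.single_apply, ite_mul]; intro h h'; exact absurd h' h

theorem dMap_injective (f : Λ) : Function.Injective (dMap f) := by
  rw [injective_iff_map_eq_zero]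
  intro x hx
  ext n
  induction n with
  | zero => simpa [dMap_apply] using congrFun (congrArg DFunLike.coe hx) 0
  | succ n ih =>
    have := congrFun (congrArg DFunLike.coe hx) (n + 1)
    simp only [dMap_apply, ih, Finsupp.coe_zero, Pi.zero_apply, zero_mul, sub_zero] at this
    exact this

theorem dMap_qMap_exact (f : Λ) : Function.Exact (dMap f) (qMap f) := by
  intro x
  refine ⟨fun hx => ?_, fun ⟨z, hz⟩ => hz ▸ LinearMap.congr_fun (qMap_dMap f) z⟩
  have hshift : ∀ j n c, Finsupp.single n c - Finsupp.single (n + j) (c * f ^ j) ∈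
      LinearMap.range (dMap f) := by
    intro j
    induction j with
    | zero => intro n c; simp
    | succ j ih =>
      intro n c
      have h := add_mem (ih n c) (LinearMap.mem_range_self (dMap f) (Finsupp.single (n + j) (c * f ^ j)))
      rw [dMap_single, sub_add_sub_cancel, mul_assoc, ← pow_succ, add_assoc] at h
      exact h
  obtain ⟨N, hN⟩ : ∃ N, ∀ n ∈ x.support, n ≤ N := ⟨x.support.sup id, fun n hn => Finset.le_sup (f := id) hn⟩
  let c := ∑ n ∈ x.support, x n * f ^ (N - n)
  have h1 : x - Finsupp.single N c ∈ LinearMap.range (dMap f) := by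
    have hx' : x - Finsupp.single N c = ∑ n ∈ x.support,
        (Finsupp.single n (x n) - Finsupp.single N (x n * f ^ (N - n))) := by
      rw [Finset.sum_sub_distrib, Finsupp.single_finsetSum]
      congr 1
      exact (Finsupp.sum_single x).symm
    rw [hx']
    refine Submodule.sum_mem _ fun n hn => ?_
    have := hshift (N - n) n (x n)
    rwa [Nat.add_sub_cancel' (hN n hn)] at this
  obtain ⟨z, hz⟩ := h1
  have hc : c • IsLocalization.Away.invSelf (S := Localization.Away f) f ^ N = 0 := by
    have := congrArg (qMap f) hz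
    rw [← LinearMap.comp_apply, qMap_dMap, LinearMap.zero_apply, map_sub, hx, qMap_single,
      zero_sub] at this
    exact neg_eq_zero.1 this.symm
  have hc' : algebraMap Λ (Localization.Away f) c = 0 := by
    have h := congrArg (· * algebraMap Λ (Localization.Away f) (f ^ N)) hc
    simp only [Algebra.smul_def, zero_mul] at h
    rw [mul_assoc, map_pow, ← mul_pow, mul_comm (IsLocalization.Away.invSelf f),
      IsLocalization.Away.mul_invSelf, one_pow, mul_one] at h
    exact h
  obtain ⟨⟨_, k, rfl⟩, hk⟩ := (IsLocalization.map_eq_zero_iff (Submonoid.powers f) _ c).1 hc'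
  have h2 : Finsupp.single N c ∈ LinearMap.range (dMap f) := by
    have := hshift k N c
    rwa [mul_comm c, hk, Finsupp.single_zero, sub_zero] at this
  obtain ⟨z', hz'⟩ := h2
  exact ⟨z + z', by rw [map_add, hz, hz', sub_add_cancel]⟩

end TwoTerm

end Groth.Agent.ProEtDCLib
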