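import Mathlib
import Groth.Agent.ProEtDCLib.Module

/-!
Derived completeness of the homology of a short complex of modules, elementwise, and the criterion
for a countable-product shift-difference map to be a homology isomorphism.
-/

universe v u

open CategoryTheory

namespace Groth.Agent.ProEtDCLib

variable {Λ : Type u} [CommRing Λ]

section

variable (S : ShortComplex (ModuleCat.{v} Λ))

/-- the class of a cycle -/
noncomputable def cls : LinearMap.ker S.g.hom →ₗ[Λ] S.homology :=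
  S.moduleCatHomologyIso.inv.hom ∘ₗ S.moduleCatLeftHomologyData.π.hom

theorem cls_surjective : Function.Surjective (cls S) := by
  intro y
  obtain ⟨z, hz⟩ := Submodule.mkQ_surjective (LinearMap.range S.moduleCatToCycles) (S.moduleCatHomologyIso.hom y)
  refine ⟨z, ?_⟩
  show S.moduleCatHomologyIso.inv (Submodule.mkQ _ z) = y
  rw [hz]
  simp

theorem cls_eq_zero_iff (z : LinearMap.ker S.g.hom) :
    cls S z = 0 ↔ (z : S.X₂) ∈ LinearMap.range S.f.hom := by
  have : cls S z = 0 ↔ z ∈ LinearMap.range S.moduleCatToCycles := by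
    rw [← Submodule.Quotient.mk_eq_zero]
    exact map_eq_zero_iff (S.moduleCatHomologyIso.inv.hom)
      ((ModuleCat.mono_iff_injective S.moduleCatHomologyIso.inv).1 inferInstance)
  rw [this]
  exact ⟨fun ⟨x, hx⟩ => ⟨x, congrArg Subtype.val hx⟩, fun ⟨x, hx⟩ => ⟨x, Subtype.ext hx⟩⟩

variable {S} in
theorem homologyMap_cls {T : ShortComplex (ModuleCat.{v} Λ)} (φ : S ⟶ T)
    (z : LinearMap.ker S.g.hom) (hz : φ.τ₂ z.1 ∈ LinearMap.ker T.g.hom) :
    ShortComplex.homologyMap φ (cls S z) = cls T ⟨φ.τ₂ z.1, hz⟩ := by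
  have hπ : ∀ (U : ShortComplex (ModuleCat.{v} Λ)) (w : LinearMap.ker U.g.hom),
      cls U w = U.homologyπ (U.moduleCatCyclesIso.inv w) := fun U w =>
    (U.moduleCatCyclesIso_inv_π_apply w).symm
  rw [hπ, hπ]
  refine (congrArg (fun k => k.hom (S.moduleCatCyclesIso.inv z)) (ShortComplex.homologyπ_naturality φ)).trans ?_
  refine congrArg T.homologyπ.hom ((ModuleCat.mono_iff_injective T.iCycles).1 inferInstance ?_)
  refine (congrArg (fun k => k.hom (S.moduleCatCyclesIso.inv z)) (ShortComplex.cyclesMap_i φ)).trans ?_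
  show φ.τ₂ (S.iCycles (S.moduleCatCyclesIso.inv z)) = _
  rw [S.moduleCatCyclesIso_inv_iCycles_apply, T.moduleCatCyclesIso_inv_iCycles_apply]
  rfl

/-- derived completeness of the homology, elementwise -/
theorem dcm_homology_iff (f : Λ) : DCM f S.homology ↔
    (∀ z : ℕ → LinearMap.ker S.g.hom, (∀ n, ((delta f z n : LinearMap.ker S.g.hom) : S.X₂) ∈ LinearMap.range S.f.hom) →
      ∀ n, (z n : S.X₂) ∈ LinearMap.range S.f.hom) ∧
    (∀ y : ℕ → LinearMap.ker S.g.hom, ∃ z : ℕ → LinearMap.ker S.g.hom,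
      ∀ n, ((delta f z n - y n : LinearMap.ker S.g.hom) : S.X₂) ∈ LinearMap.range S.f.hom) := by
  have hd : ∀ z : ℕ → LinearMap.ker S.g.hom, delta f (fun n => cls S (z n)) = fun n => cls S (delta f z n) :=
    delta_map f (cls S)
  constructor
  · intro h
    refine ⟨fun z hz n => ?_, fun y => ?_⟩
    · rw [← cls_eq_zero_iff]
      refine congrFun (h.1 (a₁ := fun n => cls S (z n)) (a₂ := 0) ?_) n
      rw [hd]
      funext k
      rw [show delta f (0 : ℕ → S.homology) k = 0 by simp [delta]]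
      exact (cls_eq_zero_iff S _).2 (hz k)
    · obtain ⟨x, hx⟩ := h.2 fun n => cls S (y n)
      choose z hz using fun n => cls_surjective S (x n)
      refine ⟨z, fun n => (cls_eq_zero_iff S _).1 ?_⟩
      rw [map_sub, ← congrFun (hd z) n]
      simp only [hz]
      rw [congrFun hx n, sub_self]
  · rintro ⟨h1, h2⟩
    refine ⟨fun a b hab => ?_, fun x => ?_⟩
    · choose za hza using fun n => cls_surjective S (a n)
      choose zb hzb using fun n => cls_surjective S (b n)
      funext n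
      rw [← hza n, ← hzb n, ← sub_eq_zero, ← map_sub, cls_eq_zero_iff]
      refine h1 (za - zb) (fun k => (cls_eq_zero_iff S _).1 ?_) n
      rw [delta_sub, Pi.sub_apply, map_sub, ← congrFun (hd za) k, ← congrFun (hd zb) k]
      simp only [hza, hzb]
      rw [congrFun hab k, sub_self]
    · choose y hy using fun n => cls_surjective S (x n)
      obtain ⟨z, hz⟩ := h2 y
      refine ⟨fun n => cls S (z n), ?_⟩
      rw [hd]
      funext n
      rw [← hy n, ← sub_eq_zero, ← map_sub, cls_eq_zero_iff]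
      exact hz n

/-- If the components of `P` are sequences in the components of `S` and `D` is the shift-difference
map, then `D` is a homology isomorphism when the homology of `S` is derived complete. -/
theorem isIso_homologyMap_of_dcm {P : ShortComplex (ModuleCat.{v} Λ)} (D : P ⟶ P)
    (π : ℕ → (P ⟶ S))
    (h₁ : Function.Bijective fun (x : P.X₁) n => (π n).τ₁ x)
    (h₂ : Function.Bijective fun (x : P.X₂) n => (π n).τ₂ x)
    (h₃ : Function.Injective fun (x : P.X₃) n => (π n).τ₃ x)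
    (f : Λ) (hD : ∀ (x : P.X₂) n, (π n).τ₂ (D.τ₂ x) = delta f (fun k => (π k).τ₂ x) n)
    (h : DCM f S.homology) : IsIso (ShortComplex.homologyMap D) := by
  rw [dcm_homology_iff] at h
  have hcomm : ∀ n (x : P.X₂), S.g ((π n).τ₂ x) = (π n).τ₃ (P.g x) := fun n x =>
    congrArg (fun k => k.hom x) (π n).comm₂₃
  have hcomm₁ : ∀ n (x : P.X₁), S.f ((π n).τ₁ x) = (π n).τ₂ (P.f x) := fun n x =>
    congrArg (fun k => k.hom x) (π n).comm₁₂
  have hker : ∀ x : P.X₂, (∀ n, (π n).τ₂ x ∈ LinearMap.ker S.g.hom) → x ∈ LinearMap.ker P.g.hom := by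
    intro x hx
    refine LinearMap.mem_ker.2 (h₃ ?_)
    funext n
    show (π n).τ₃ (P.g x) = (π n).τ₃ 0
    rw [← hcomm n x, map_zero]
    exact LinearMap.mem_ker.1 (hx n)
  have hker' : ∀ (x : LinearMap.ker P.g.hom) n, (π n).τ₂ x.1 ∈ LinearMap.ker S.g.hom := fun x n => by
    refine LinearMap.mem_ker.2 ((hcomm n x.1).trans ?_)
    rw [show P.g x.1 = 0 from x.2, map_zero]
  have hrange : ∀ x : P.X₂, (∀ n, (π n).τ₂ x ∈ LinearMap.range S.f.hom) → x ∈ LinearMap.range P.f.hom := by
    intro x hx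
    choose a ha using hx
    obtain ⟨b, hb⟩ := h₁.2 a
    refine ⟨b, h₂.1 ?_⟩
    funext n
    show (π n).τ₂ (P.f b) = _
    have hbn : (π n).τ₁ b = a n := congrFun hb n
    rw [← hcomm₁, hbn]
    exact ha n
  have hDk : ∀ z : LinearMap.ker P.g.hom, D.τ₂ z.1 ∈ LinearMap.ker P.g.hom := fun z => by
    refine LinearMap.mem_ker.2 ?_
    show P.g (D.τ₂ z.1) = 0
    rw [congrArg (fun k => k.hom z.1) D.comm₂₃ |> fun e => (e : P.g (D.τ₂ z.1) = D.τ₃ (P.g z.1)),
      show P.g z.1 = 0 from z.2, map_zero]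
  rw [ConcreteCategory.isIso_iff_bijective]
  refine ⟨(injective_iff_map_eq_zero _).2 fun a ha => ?_, fun b => ?_⟩
  · obtain ⟨z, rfl⟩ := cls_surjective P a
    rw [homologyMap_cls D z (hDk z), cls_eq_zero_iff] at ha
    obtain ⟨w, hw⟩ := ha
    rw [cls_eq_zero_iff]
    refine hrange _ fun n => h.1 (fun k => ⟨_, hker' z k⟩) (fun k => ⟨(π k).τ₁ w, ?_⟩) n
    show S.f ((π k).τ₁ w) = _
    rw [hcomm₁, show P.f w = D.τ₂ z.1 from hw, hD]
    rfl
  · obtain ⟨y, rfl⟩ := cls_surjective P b
    obtain ⟨z, hz⟩ := h.2 fun k => ⟨_, hker' y k⟩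
    obtain ⟨x, hx⟩ := h₂.2 fun k => (z k : S.X₂)
    have hxk : x ∈ LinearMap.ker P.g.hom := hker x fun n => by
      have hxn : (π n).τ₂ x = (z n : S.X₂) := congrFun hx n
      rw [hxn]; exact (z n).2
    refine ⟨cls P ⟨x, hxk⟩, ?_⟩
    rw [homologyMap_cls D _ (hDk _), ← sub_eq_zero, ← map_sub, cls_eq_zero_iff]
    refine hrange _ fun n => ?_
    show (π n).τ₂ (D.τ₂ x - y.1) ∈ _
    rw [map_sub, hD, show (fun k => (π k).τ₂ x) = fun k => (z k : S.X₂) from hx]
    exact hz n

end

end Groth.Agent.ProEtDCLib
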