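import Mathlib
import Groth.Agent.ProEtDCLib.Sheaf
import Groth.Agent.ProEtDCLib.Homology

/-!
Derived completeness on the pro-etale site, via sections over weakly contractible objects.
-/

universe u

open CategoryTheory CategoryTheory.Limits AlgebraicGeometry Opposite Pretriangulated

namespace Groth.Agent.ProEtDCLib

set_option backward.isDefEq.respectTransparency.types false
set_option backward.isDefEq.respectTransparency false
set_option backward.defeqAttrib.useBackward true

attribute [local instance] HasDerivedCategory.standard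

variable {Λ : Type (u + 1)} [CommRing Λ] {X : Scheme.{u}}

/-- derived completeness of sections on weakly contractible objects -/
def DCS (f : Λ) (H : EtModW.ModP Λ X) : Prop :=
  ∀ V : X.ProEt, ProEtS.IsWC V → DCM f ((sec Λ V).obj H)

theorem DCS.of_iso {f : Λ} {H H' : EtModW.ModP Λ X} (h : DCS f H) (e : H ≅ H') : DCS f H' :=
  fun V hV => DCM.congr ((sec Λ V).mapIso e).toLinearEquiv (h V hV)

theorem DCS.of_isZero (f : Λ) {H : EtModW.ModP Λ X} (h : IsZero H) : DCS f H := fun V _ => by
  have := ModuleCat.subsingleton_of_isZero ((sec Λ V).map_isZero h)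
  exact DCM.of_subsingleton f

section Shift

variable (f : Λ) (K : CochainComplex (EtModW.ModP Λ X) ℤ)

/-- the shift-difference endomorphism of a countable power of a complex -/
noncomputable def deltaC : (∏ᶜ fun _ : ℕ => K) ⟶ ∏ᶜ fun _ : ℕ => K :=
  Pi.lift fun n => Pi.π (fun _ : ℕ => K) n - f • Pi.π (fun _ : ℕ => K) (n + 1)

theorem bijective_sec_pi {V : X.ProEt} (p : ℤ) :
    Function.Bijective fun (x : (sec Λ V).obj ((∏ᶜ fun _ : ℕ => K).X p)) n =>
      (sec Λ V).map ((Pi.π (fun _ : ℕ => K) n).f p) x := by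
  let G := HomologicalComplex.eval (EtModW.ModP Λ X) (ComplexShape.up ℤ) p ⋙ sec Λ V ⋙
    forget (ModuleCat.{u + 1} Λ)
  have hlim := isLimitFanMkObjOfIsLimit G (fun _ : ℕ => K) (Pi.π _) (productIsProduct _)
  have h := (Types.isLimit_iff _).1 ⟨hlim⟩
  refine ⟨fun a b hab => ?_, fun y => ?_⟩
  · obtain ⟨x, -, hu⟩ := h (fun j => G.map (Pi.π (fun _ : ℕ => K) j.as) a) (by
      rintro ⟨i⟩ ⟨j⟩ ⟨⟨⟨⟩⟩⟩; rfl)
    exact (hu a fun j => rfl).trans (hu b fun j => (congrFun hab j.as).symm).symm
  · obtain ⟨x, hx, -⟩ := h (fun j => y j.as) (by rintro ⟨i⟩ ⟨j⟩ ⟨⟨⟨⟩⟩⟩; rfl)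
    exact ⟨x, funext fun n => hx ⟨n⟩⟩

theorem quasiIso_deltaC (h : ∀ p, DCS f (K.homology p)) : QuasiIso (deltaC f K) := by
  refine ⟨fun p => ?_⟩
  rw [quasiIsoAt_iff_isIso_homologyMap]
  refine isIso_of_wc _ fun V hV => ?_
  have := preservesHomology_sec Λ hV
  let P : CochainComplex (EtModW.ModP Λ X) ℤ := ∏ᶜ fun _ : ℕ => K
  let φ := (HomologicalComplex.shortComplexFunctor (EtModW.ModP Λ X) (ComplexShape.up ℤ) p).map (deltaC f K)
  let π' : ∀ n, (P.sc p).map (sec Λ V) ⟶ (K.sc p).map (sec Λ V) := fun n =>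
    (sec Λ V).mapShortComplex.map
      ((HomologicalComplex.shortComplexFunctor (EtModW.ModP Λ X) (ComplexShape.up ℤ) p).map
        (Pi.π (fun _ : ℕ => K) n))
  have hdc : DCM f ((K.sc p).map (sec Λ V)).homology :=
    DCM.congr ((K.sc p).mapHomologyIso (sec Λ V)).toLinearEquiv.symm (h p V hV)
  have hiso : IsIso (ShortComplex.homologyMap ((sec Λ V).mapShortComplex.map φ)) := by
    refine isIso_homologyMap_of_dcm ((K.sc p).map (sec Λ V)) ((sec Λ V).mapShortComplex.map φ) π'
      (bijective_sec_pi K _) (bijective_sec_pi K _) (bijective_sec_pi K _).1 f (fun x n => ?_) hdc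
    have h1 : deltaC f K ≫ Pi.π (fun _ : ℕ => K) n =
        Pi.π (fun _ : ℕ => K) n - f • Pi.π (fun _ : ℕ => K) (n + 1) := Pi.lift_π _ _
    have h2 := congrArg (fun k => ((sec Λ V).map (HomologicalComplex.Hom.f k p)) x) h1
    simp only [HomologicalComplex.comp_f, HomologicalComplex.sub_f_apply,
      HomologicalComplex.smul_f_apply, Functor.map_comp, Functor.map_sub, sec_map_smul] at h2
    exact h2
  have hnat := ShortComplex.mapHomologyIso_hom_naturality (S₁ := P.sc p) (S₂ := P.sc p) (F := sec Λ V) φ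
  have hiso' : IsIso ((sec Λ V).map (HomologicalComplex.homologyMap (deltaC f K) p)) := by
    have : (sec Λ V).map (HomologicalComplex.homologyMap (deltaC f K) p) =
        ((P.sc p).mapHomologyIso (sec Λ V)).inv ≫
          ShortComplex.homologyMap ((sec Λ V).mapShortComplex.map φ) ≫
          ((P.sc p).mapHomologyIso (sec Λ V)).hom := by
      rw [hnat, Iso.inv_hom_id_assoc]; rfl
    rw [this]; infer_instance
  exact ConcreteCategory.bijective_of_isIso ((sec Λ V).map (HomologicalComplex.homologyMap (deltaC f K) p))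

end Shift

/-- forward direction: sheaves on which `f` is invertible do not map to derived complete objects -/
theorem hom_eq_zero_of_dcs (f : Λ) (A : EtModW.ModP Λ X) [IsIso (f • 𝟙 A)]
    (Y : ProEtDC.DP Λ X) (h : ∀ p, DCS f (ProEtDC.HDP Y p))
    (φ : (DerivedCategory.singleFunctor (EtModW.ModP Λ X) 0).obj A ⟶ Y) : φ = 0 := by
  let e : DerivedCategory.Q.obj (DerivedCategory.Q.objPreimage Y) ≅ Y :=
    DerivedCategory.Q.objObjPreimageIso Y
  let S := (HomologicalComplex.single (EtModW.ModP Λ X) (ComplexShape.up ℤ) 0).obj A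
  let φ' : DerivedCategory.Q.obj S ⟶ DerivedCategory.Q.obj (DerivedCategory.Q.objPreimage Y) :=
    φ ≫ e.inv
  suffices φ' = 0 by
    rw [← cancel_mono e.inv, zero_comp]; exact this
  obtain ⟨K, g, s, hs, hfac⟩ := DerivedCategory.left_fac φ'
  suffices DerivedCategory.Q.map g = 0 by rw [hfac, this, zero_comp]
  have hK : ∀ p, DCS f (K.homology p) := fun p => (h p).of_iso
    ((DerivedCategory.homologyFunctor _ p).mapIso (e.symm ≪≫ asIso (DerivedCategory.Q.map s)) ≪≫
      (DerivedCategory.homologyFunctorFactors _ p).app K)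
  let u : ℕ → (A ⟶ A) := fun n => Nat.rec (𝟙 A) (fun _ r => inv (f • 𝟙 A) ≫ r) n
  have hu : ∀ n, f • u (n + 1) = u n := fun n => by
    calc f • u (n + 1) = (f • 𝟙 A) ≫ inv (f • 𝟙 A) ≫ u n := by
          rw [Linear.smul_comp, Category.id_comp]
      _ = u n := by rw [IsIso.hom_inv_id_assoc]
  let gn : ℕ → (S ⟶ K) := fun n =>
    (HomologicalComplex.single (EtModW.ModP Λ X) (ComplexShape.up ℤ) 0).map (u n) ≫ g
  let Φ : S ⟶ ∏ᶜ fun _ : ℕ => K := Pi.lift gn
  have hΦ : Φ ≫ deltaC f K = 0 := by
    refine Pi.hom_ext _ _ fun n => ?_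
    rw [zero_comp, Category.assoc, deltaC, Pi.lift_π]
    refine HomologicalComplex.from_single_hom_ext ?_
    have hπ : ∀ m, Φ.f 0 ≫ (Pi.π (fun _ : ℕ => K) m).f 0 = (gn m).f 0 := fun m =>
      congrArg (fun k => HomologicalComplex.Hom.f k 0) (Pi.lift_π gn m)
    simp only [HomologicalComplex.sub_f_apply, HomologicalComplex.smul_f_apply,
      HomologicalComplex.comp_f, HomologicalComplex.zero_f, Preadditive.comp_sub, Linear.comp_smul, hπ]
    simp only [gn, HomologicalComplex.comp_f, HomologicalComplex.single_map_f_self, Category.assoc]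
    rw [← hu n]
    simp [Linear.smul_comp, Linear.comp_smul]
  have := quasiIso_deltaC f K hK
  have hQ : DerivedCategory.Q.map Φ = 0 := by
    rw [← cancel_mono (DerivedCategory.Q.map (deltaC f K)), ← Functor.map_comp, hΦ,
      Functor.map_zero, zero_comp]
  have hg : g = Φ ≫ Pi.π (fun _ : ℕ => K) 0 := by
    rw [Pi.lift_π]
    simp [gn, u]
    exact (Category.id_comp g).symm
  rw [hg, Functor.map_comp, hQ, zero_comp]

section Projective

variable (Y : ProEtDC.DP Λ X)

/-- a morphism out of a sheaf in degree zero, on `H^0` -/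
noncomputable def toH (P : EtModW.ModP Λ X)
    (φ : (DerivedCategory.singleFunctor (EtModW.ModP Λ X) 0).obj P ⟶ Y) : P ⟶ ProEtDC.HDP Y 0 :=
  (HomologicalComplex.singleObjHomologySelfIso (ComplexShape.up ℤ) 0 P).inv ≫
    (DerivedCategory.homologyFunctorFactors (EtModW.ModP Λ X) 0).inv.app _ ≫
    (DerivedCategory.homologyFunctor (EtModW.ModP Λ X) 0).map φ

theorem toH_comp {P P' : EtModW.ModP Λ X} (d : P' ⟶ P)
    (φ : (DerivedCategory.singleFunctor (EtModW.ModP Λ X) 0).obj P ⟶ Y) :
    toH Y P' ((DerivedCategory.singleFunctor (EtModW.ModP Λ X) 0).map d ≫ φ) = d ≫ toH Y P φ := by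
  simp only [toH, Functor.map_comp]
  have h1 := (DerivedCategory.homologyFunctorFactors (EtModW.ModP Λ X) 0).inv.naturality
    ((HomologicalComplex.single (EtModW.ModP Λ X) (ComplexShape.up ℤ) 0).map d)
  dsimp at h1
  erw [← reassoc_of% h1]
  rw [← Category.assoc, ← Category.assoc d]
  congr 1
  exact (HomologicalComplex.singleObjHomologySelfIso_inv_naturality (c := ComplexShape.up ℤ) (j := 0) d)

theorem toH_bijective (P : EtModW.ModP Λ X) [Projective P] : Function.Bijective (toH Y P) := by
  let K := DerivedCategory.Q.objPreimage Y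
  let e : DerivedCategory.Q.obj K ≅ Y := DerivedCategory.Q.objObjPreimageIso Y
  let S := (HomologicalComplex.single (EtModW.ModP Λ X) (ComplexShape.up ℤ) 0).obj P
  have : ∀ n, Projective (S.X n) := fun n => by
    by_cases hn : n = 0
    · subst hn
      exact Projective.of_iso (HomologicalComplex.singleObjXSelf _ _ _).symm ‹_›
    · exact (HomologicalComplex.isZero_single_obj_X _ _ _ _ hn).projective
  have : CochainComplex.IsKProjective S := CochainComplex.isKProjective_of_projective S 0
  let eH : ProEtDC.HDP Y 0 ≅ K.homology 0 :=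
    ((DerivedCategory.homologyFunctor _ 0).mapIso e).symm ≪≫
      (DerivedCategory.homologyFunctorFactors _ 0).app K
  have key : ∀ g : S ⟶ K, toH Y P (DerivedCategory.Q.map g ≫ e.hom) ≫ eH.hom =
      (HomologicalComplex.singleObjHomologySelfIso (ComplexShape.up ℤ) 0 P).inv ≫
        HomologicalComplex.homologyMap g 0 := by
    intro g
    simp only [toH, eH, Iso.trans_hom, Iso.symm_hom, Functor.mapIso_inv, Iso.app_hom, Category.assoc,
      Functor.map_comp]
    rw [← Functor.map_comp_assoc _ e.hom e.inv, e.hom_inv_id, CategoryTheory.Functor.map_id,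
      Category.id_comp]
    erw [DerivedCategory.homologyFunctorFactors_hom_naturality]
    erw [Iso.inv_hom_id_app_assoc]
  have key' : ∀ g : S ⟶ K, ∃ (c : P ⟶ K.cycles 0), c ≫ K.iCycles 0 =
      (HomologicalComplex.singleObjXSelf (ComplexShape.up ℤ) 0 P).inv ≫ g.f 0 ∧
      (HomologicalComplex.singleObjHomologySelfIso (ComplexShape.up ℤ) 0 P).inv ≫
        HomologicalComplex.homologyMap g 0 = c ≫ K.homologyπ 0 := by
    intro g
    refine ⟨(HomologicalComplex.singleObjCyclesSelfIso (ComplexShape.up ℤ) 0 P).inv ≫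
      HomologicalComplex.cyclesMap g 0, ?_, ?_⟩
    · rw [Category.assoc, HomologicalComplex.cyclesMap_i,
        HomologicalComplex.singleObjCyclesSelfIso_inv_iCycles_assoc]
    · rw [Category.assoc, ← HomologicalComplex.homologyπ_naturality,
        HomologicalComplex.singleObjCyclesSelfIso_inv_homologyπ_assoc]
  refine ⟨fun φ₁ φ₂ h => ?_, fun a => ?_⟩
  · have hinj : ∀ φ, toH Y P φ = 0 → φ = 0 := by
      intro φ hφ
      obtain ⟨g', hg'⟩ := (CochainComplex.IsKProjective.Qh_map_bijective S
        ((HomotopyCategory.quotient _ _).obj K)).2 (φ ≫ e.inv :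
          DerivedCategory.Q.obj S ⟶ DerivedCategory.Q.obj K)
      obtain ⟨g, rfl⟩ := (HomotopyCategory.quotient _ _).map_surjective g'
      have hg : DerivedCategory.Q.map g ≫ e.hom = φ := by
        rw [show DerivedCategory.Q.map g = φ ≫ e.inv from hg', Category.assoc, e.inv_hom_id]
        exact Category.comp_id φ
      have h0 := key g
      rw [hg, hφ, zero_comp] at h0
      obtain ⟨c, hc, hc'⟩ := key' g
      rw [hc'] at h0
      have hex : (ShortComplex.mk (K.toCycles ((ComplexShape.up ℤ).prev 0) 0) (K.homologyπ 0) (by simp)).Exact :=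
        ShortComplex.exact_of_g_is_cokernel _ (K.homologyIsCokernel _ 0 rfl)
      obtain ⟨l, hl⟩ : ∃ l : P ⟶ K.X ((ComplexShape.up ℤ).prev 0), l ≫ K.toCycles _ 0 = c :=
        ⟨hex.liftFromProjective c h0.symm, hex.liftFromProjective_comp c h0.symm⟩
      have hhom : Homotopy g 0 :=
        { hom := fun i j => if hij : i = 0 ∧ j = (ComplexShape.up ℤ).prev 0 then
            (HomologicalComplex.singleObjXIsoOfEq (ComplexShape.up ℤ) 0 P i hij.1).hom ≫ l ≫
              eqToHom (by rw [hij.2]) else 0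
          zero := fun i j hij => by
            rw [dif_neg]
            rintro ⟨rfl, rfl⟩
            exact hij (by simp)
          comm := fun i => by
            by_cases hi : i = 0
            · subst hi
              rw [dNext_eq _ (show (ComplexShape.up ℤ).Rel 0 1 by simp),
                prevD_eq _ (show (ComplexShape.up ℤ).Rel ((ComplexShape.up ℤ).prev 0) 0 by simp)]
              simp only [HomologicalComplex.zero_f, add_zero, true_and, dite_true]
              rw [dif_neg (fun h => by simp at h), comp_zero, zero_add]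
              simp only [eqToHom_refl, Category.comp_id, Category.assoc]
              rw [← K.toCycles_i ((ComplexShape.up ℤ).prev 0) 0, reassoc_of% hl, hc]
              simp [HomologicalComplex.singleObjXSelf]
            · exact (HomologicalComplex.isZero_single_obj_X _ 0 P i hi).eq_of_src _ _ }
      have hg0 : DerivedCategory.Q.map g = 0 := by
        have h2 := HomotopyCategory.eq_of_homotopy _ _ hhom
        have h3 := congrArg (fun k => DerivedCategory.Qh.map k) h2
        simp only [Functor.map_zero] at h3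
        exact h3
      rw [← hg, hg0, zero_comp]
    have hadd : toH Y P (φ₁ - φ₂) = toH Y P φ₁ - toH Y P φ₂ := by
      simp only [toH, Functor.map_sub, Preadditive.comp_sub]
    exact sub_eq_zero.1 (hinj _ (by rw [hadd, h, sub_self]))
  · let c : P ⟶ K.cycles 0 := Projective.factorThru (a ≫ eH.hom) (K.homologyπ 0)
    let g : S ⟶ K := HomologicalComplex.mkHomFromSingle (c ≫ K.iCycles 0) (fun k _ => by simp)
    refine ⟨DerivedCategory.Q.map g ≫ e.hom, ?_⟩
    rw [← cancel_mono eH.hom, key]
    obtain ⟨c', hc', hc''⟩ := key' g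
    have : c' = c := by
      rw [← cancel_mono (K.iCycles 0), hc', HomologicalComplex.mkHomFromSingle_f, Iso.inv_hom_id_assoc]
    rw [hc'', this, Projective.factorThru_comp]

end Projective

/-- converse direction -/
theorem dcs_H0_of_hom_eq_zero (f : Λ) (Y : ProEtDC.DP Λ X)
    (h : ∀ V : X.ProEt, ProEtS.IsWC V →
      (∀ φ : (DerivedCategory.singleFunctor (EtModW.ModP Λ X) 0).obj (ProEtDC.locExt Λ V f) ⟶ Y, φ = 0) ∧
      ∀ φ : (DerivedCategory.singleFunctor (EtModW.ModP Λ X) 0).obj (ProEtDC.locExt Λ V f) ⟶ Y⟦(1 : ℤ)⟧, φ = 0) :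
    DCS f (ProEtDC.HDP Y 0) := by
  intro V hV
  let F0 : ModuleCat.{u + 1} Λ := ModuleCat.of Λ (ℕ →₀ Λ)
  let S : ShortComplex (ModuleCat.{u + 1} Λ) := ShortComplex.mk (ModuleCat.ofHom (dMap f) : F0 ⟶ F0)
    (ModuleCat.ofHom (qMap f) : F0 ⟶ ModuleCat.of Λ (Localization.Away f)) (ModuleCat.hom_ext (qMap_dMap f))
  have hS : S.ShortExact := ModuleCat.shortComplex_shortExact S (dMap_qMap_exact f) (dMap_injective f)
    (qMap_surjective f)
  have hFS : (S.map (freeP Λ V)).ShortExact :=
    have : Mono S.f := hS.mono_f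
    have : Epi S.g := hS.epi_g
    { exact := ShortComplex.exact_of_g_is_cokernel _
        (CokernelCofork.mapIsColimit _ hS.gIsCokernel (freeP Λ V))
      mono_f := mono_freeP_map Λ V S.f
      epi_g := (freeP Λ V).map_epi S.g }
  have hT := hFS.singleTriangle_distinguished
  have : Projective F0 := (IsProjective.iff_projective _).1 (inferInstance : Module.Projective Λ (ℕ →₀ Λ))
  have hP : Projective ((freeP Λ V).obj F0) := projective_freeP Λ hV F0
  let d := (freeP Λ V).map (ModuleCat.ofHom (dMap f) : F0 ⟶ F0)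
  let sd := (DerivedCategory.singleFunctor (EtModW.ModP Λ X) 0).map d
  let eL := (DerivedCategory.singleFunctor (EtModW.ModP Λ X) 0).mapIso (locExtIso Λ V f)
  have hinj : ∀ φ : (DerivedCategory.singleFunctor (EtModW.ModP Λ X) 0).obj ((freeP Λ V).obj F0) ⟶ Y,
      sd ≫ φ = 0 → φ = 0 := fun φ hφ => by
    obtain ⟨ψ, rfl⟩ := Triangle.yoneda_exact₂ _ hT φ hφ
    have hψ : ψ = 0 := by
      rw [← cancel_epi eL.inv, comp_zero]
      exact (h V hV).1 _
    rw [hψ, comp_zero]
  have hsurj : ∀ φ : (DerivedCategory.singleFunctor (EtModW.ModP Λ X) 0).obj ((freeP Λ V).obj F0) ⟶ Y,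
      ∃ χ, sd ≫ χ = φ := fun φ => by
    have hT' := inv_rot_of_distTriang _ hT
    obtain ⟨χ, hχ⟩ := Triangle.yoneda_exact₂ _ hT' φ (by
      apply (shiftFunctor _ (1 : ℤ)).map_injective
      rw [Functor.map_zero, Functor.map_comp]
      let ψ := φ⟦(1 : ℤ)⟧'
      have hz : ∀ χ' : (DerivedCategory.singleFunctor (EtModW.ModP Λ X) 0).obj (S.map (freeP Λ V)).X₃ ⟶
          Y⟦(1 : ℤ)⟧, χ' = 0 := fun χ' => by
        rw [← cancel_epi eL.inv, comp_zero]
        exact (h V hV).2 _
      rw [← cancel_epi ((shiftEquiv _ (1 : ℤ)).counitIso.inv.app _), comp_zero]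
      exact hz _)
    exact ⟨χ, hχ.symm⟩
  let adj := freeAdj Λ V
  have hadj : ∀ (b : F0 ⟶ (sec Λ V).obj (ProEtDC.HDP Y 0)),
      d ≫ (adj.homEquiv _ _).symm b = (adj.homEquiv _ _).symm (ModuleCat.ofHom (dMap f) ≫ b) := fun b =>
    (adj.homEquiv_naturality_left_symm _ b).symm
  have hbij : Function.Bijective fun a : (freeP Λ V).obj F0 ⟶ ProEtDC.HDP Y 0 => d ≫ a := by
    obtain ⟨hi, hs⟩ := toH_bijective Y ((freeP Λ V).obj F0)
    refine ⟨fun a b hab => ?_, fun a => ?_⟩
    · obtain ⟨φ, rfl⟩ := hs a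
      obtain ⟨ψ, rfl⟩ := hs b
      have h1 : sd ≫ φ = sd ≫ ψ := hi (by rw [toH_comp, toH_comp]; exact hab)
      rw [sub_eq_zero.1 (hinj (φ - ψ) (by rw [Preadditive.comp_sub, h1, sub_self]))]
    · obtain ⟨φ, rfl⟩ := hs a
      obtain ⟨χ, rfl⟩ := hsurj φ
      exact ⟨toH Y _ χ, (toH_comp Y d χ).symm⟩
  let ev : (ℕ → (sec Λ V).obj (ProEtDC.HDP Y 0)) → (F0 ⟶ (sec Λ V).obj (ProEtDC.HDP Y 0)) := fun x =>
    ModuleCat.ofHom (Finsupp.linearCombination Λ x)
  have hev : ∀ x, (ModuleCat.ofHom (dMap f) : F0 ⟶ F0) ≫ ev x = ev (delta f x) := fun x => by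
    refine ModuleCat.hom_ext (Finsupp.lhom_ext fun n c => ?_)
    show Finsupp.linearCombination Λ x (dMap f (Finsupp.single n c)) =
      Finsupp.linearCombination Λ (delta f x) (Finsupp.single n c)
    rw [dMap_single, map_sub, Finsupp.linearCombination_single, Finsupp.linearCombination_single,
      Finsupp.linearCombination_single]
    simp only [delta, smul_sub, mul_smul]
  have hev1 : ∀ (x : ℕ → (sec Λ V).obj (ProEtDC.HDP Y 0)) n, ev x (Finsupp.single n 1) = x n := fun x n => by
    show Finsupp.linearCombination Λ x (Finsupp.single n 1) = x n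
    simp
  refine ⟨fun x y hxy => ?_, fun y => ?_⟩
  · have h1 : (adj.homEquiv _ _).symm (ev x) = (adj.homEquiv _ _).symm (ev y) :=
      hbij.1 (by simp only; rw [hadj, hadj, hev, hev, hxy])
    funext n
    rw [← hev1 x n, (adj.homEquiv _ _).symm.injective h1, hev1]
  · obtain ⟨a, ha⟩ := hbij.2 ((adj.homEquiv _ _).symm (ev y))
    refine ⟨fun n => adj.homEquiv _ _ a (Finsupp.single n 1), ?_⟩
    have hx : ev (fun n => adj.homEquiv _ _ a (Finsupp.single n 1)) = adj.homEquiv _ _ a := by
      refine ModuleCat.hom_ext (Finsupp.lhom_ext fun n c => ?_)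
      show Finsupp.linearCombination Λ _ (Finsupp.single n c) = adj.homEquiv _ _ a (Finsupp.single n c)
      rw [Finsupp.linearCombination_single, ← map_smul, Finsupp.smul_single, smul_eq_mul, mul_one]
    have h1 : ev (delta f fun n => adj.homEquiv _ _ a (Finsupp.single n 1)) = ev y := by
      rw [← hev, hx]
      apply (adj.homEquiv _ _).symm.injective
      rw [← hadj, Equiv.symm_apply_apply]
      exact ha
    funext n
    rw [← hev1 (delta f _) n, h1, hev1]

end Groth.Agent.ProEtDCLib
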