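import Mathlib
import Groth.Agent.ProEtDCLib.Derived

/-!
Derived complete sheaves: characterization on weakly contractible objects and consequences.
-/

universe u

open CategoryTheory CategoryTheory.Limits AlgebraicGeometry Opposite

namespace Groth.Agent.ProEtDCLib

set_option backward.isDefEq.respectTransparency.types false
set_option backward.isDefEq.respectTransparency false
set_option backward.defeqAttrib.useBackward true

attribute [local instance] HasDerivedCategory.standard

variable {Λ : Type (u + 1)} [CommRing Λ] {X : Scheme.{u}}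

/-- homology of a shift -/
noncomputable def hdpShift (K : ProEtDC.DP Λ X) (n a a' : ℤ) (h : n + a = a') :
    ProEtDC.HDP (K⟦n⟧) a ≅ ProEtDC.HDP K a' :=
  ((DerivedCategory.homologyFunctor (EtModW.ModP Λ X) 0).shiftIso n a a' h).app K

theorem isDC_iff (I : Ideal Λ) (K : ProEtDC.DP Λ X) :
    ProEtDC.IsDC Λ I K ↔ ∀ p : ℤ, ∀ f ∈ I, DCS f (ProEtDC.HDP K p) := by
  constructor
  · intro h p f hf
    refine (dcs_H0_of_hom_eq_zero f (K⟦p⟧) fun V _ => ⟨fun φ => ?_, fun φ => ?_⟩).of_iso
      (hdpShift K p 0 p (add_zero p))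
    · exact (h V f hf p).elim _ _
    · have := h V f hf (p + 1)
      rw [← cancel_mono ((shiftFunctorAdd' _ p 1 (p + 1) rfl).inv.app K), zero_comp]
      exact this.elim _ _
  · intro h U f hf n
    have := isIso_smul_locExt Λ U f
    refine subsingleton_of_forall_eq 0 fun φ =>
      hom_eq_zero_of_dcs f _ _ (fun q => (h (n + q) f hf).of_iso (hdpShift K n q (n + q) rfl).symm) φ

/-- homology of a sheaf in degree zero -/
noncomputable def hdpSingle (F : EtModW.ModP Λ X) :
    ProEtDC.HDP ((DerivedCategory.singleFunctor (EtModW.ModP Λ X) 0).obj F) 0 ≅ F :=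
  (DerivedCategory.homologyFunctorFactors (EtModW.ModP Λ X) 0).app _ ≪≫
    HomologicalComplex.singleObjHomologySelfIso (ComplexShape.up ℤ) 0 F

theorem isZero_hdpSingle (F : EtModW.ModP Λ X) {q : ℤ} (hq : q ≠ 0) :
    IsZero (ProEtDC.HDP ((DerivedCategory.singleFunctor (EtModW.ModP Λ X) 0).obj F) q) :=
  (HomologicalComplex.isZero_single_obj_homology (ComplexShape.up ℤ) 0 F q hq).of_iso
    ((DerivedCategory.homologyFunctorFactors (EtModW.ModP Λ X) q).app _)

theorem isDCSheaf_iff (I : Ideal Λ) (F : EtModW.ModP Λ X) :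
    ProEtDC.IsDCSheaf Λ I F ↔ ∀ f ∈ I, DCS f F := by
  constructor
  · intro h f hf
    refine (dcs_H0_of_hom_eq_zero f ((DerivedCategory.singleFunctor _ 0).obj F) fun V _ =>
      ⟨fun φ => ?_, fun φ => ?_⟩).of_iso (hdpSingle F)
    · rw [← cancel_mono ((shiftFunctorZero' (DerivedCategory (EtModW.ModP Λ X)) ((0 : ℕ) : ℤ) rfl).inv.app
        ((DerivedCategory.singleFunctor _ 0).obj F)), zero_comp]
      exact ((Abelian.Ext.homEquiv (X := ProEtDC.locExt Λ V f) (Y := F) (n := 0)).symm.subsingleton_congr.2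
        (h V f hf 0)).elim _ _
    · exact ((Abelian.Ext.homEquiv (X := ProEtDC.locExt Λ V f) (Y := F) (n := 1)).symm.subsingleton_congr.2
        (h V f hf 1)).elim _ _
  · intro h U f hf n
    have := isIso_smul_locExt Λ U f
    refine (Abelian.Ext.homEquiv (X := ProEtDC.locExt Λ U f) (Y := F) (n := n)).subsingleton_congr.2
      (subsingleton_of_forall_eq 0 fun φ => hom_eq_zero_of_dcs f _ _ (fun q => ?_) φ)
    rcases eq_or_ne ((n : ℤ) + q) 0 with hq | hq
    · exact (h f hf).of_iso ((hdpSingle F).symm ≪≫ (hdpShift _ (n : ℤ) q 0 hq).symm)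
    · exact DCS.of_isZero f ((isZero_hdpSingle F hq).of_iso (hdpShift _ (n : ℤ) q _ rfl))

theorem exact_sec {V : X.ProEt} (hV : ProEtS.IsWC V) {S : ShortComplex (EtModW.ModP Λ X)}
    (hS : S.Exact) : Function.Exact ((sec Λ V).map S.f).hom ((sec Λ V).map S.g).hom :=
  have := preservesHomology_sec Λ hV
  (ShortComplex.ShortExact.moduleCat_exact_iff_function_exact _).1 (hS.map (sec Λ V))

theorem weakSerre (I : Ideal Λ) :
    (∀ (F G : EtModW.ModP Λ X) (φ : F ⟶ G), ProEtDC.IsDCSheaf Λ I F → ProEtDC.IsDCSheaf Λ I G →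
      ProEtDC.IsDCSheaf Λ I (kernel φ) ∧ ProEtDC.IsDCSheaf Λ I (cokernel φ)) ∧
    ∀ (S : ShortComplex (EtModW.ModP Λ X)), S.ShortExact →
      ProEtDC.IsDCSheaf Λ I S.X₁ → ProEtDC.IsDCSheaf Λ I S.X₃ → ProEtDC.IsDCSheaf Λ I S.X₂ := by
  simp only [isDCSheaf_iff]
  refine ⟨fun F G φ hF hG => ⟨fun f hf V hV => ?_, fun f hf V hV => ?_⟩,
    fun S hS h₁ h₃ f hf V hV => ?_⟩
  · refine DCM.ker ((sec Λ V).map (kernel.ι φ)).hom ((sec Λ V).map φ).hom
      ((ModuleCat.mono_iff_injective _).1 inferInstance) ?_ (hF f hf V hV) (hG f hf V hV)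
    exact exact_sec hV (S := ShortComplex.mk _ _ (kernel.condition φ))
      (ShortComplex.exact_of_f_is_kernel _ (kernelIsKernel φ))
  · refine DCM.coker ((sec Λ V).map φ).hom ((sec Λ V).map (cokernel.π φ)).hom
      (sec_surjective Λ hV _) ?_ (hF f hf V hV) (hG f hf V hV)
    exact exact_sec hV (S := ShortComplex.mk _ _ (cokernel.condition φ))
      (ShortComplex.exact_of_g_is_cokernel _ (cokernelIsCokernel φ))
  · have := hS.mono_f
    have := hS.epi_g
    exact DCM.middle ((sec Λ V).map S.f).hom ((sec Λ V).map S.g).hom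
      ((ModuleCat.mono_iff_injective _).1 inferInstance) (sec_surjective Λ hV _) (exact_sec hV hS.exact)
      (h₁ f hf V hV) (h₃ f hf V hV)

theorem DCS.limit {f : Λ} (D : ℕᵒᵖ ⥤ EtModW.ModP Λ X) (h : ∀ j, DCS f (D.obj j)) :
    DCS f (Limits.limit D) := by
  intro V hV
  have hl := (Types.isLimit_iff _).1
    ⟨isLimitOfPreserves (sec Λ V ⋙ forget (ModuleCat.{u + 1} Λ)) (limit.isLimit D)⟩
  let p : ∀ j, (sec Λ V).obj (Limits.limit D) →ₗ[Λ] (sec Λ V).obj (D.obj j) := fun j =>
    ((sec Λ V).map (limit.π D j)).hom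
  have hext : ∀ a b : (sec Λ V).obj (Limits.limit D), (∀ j, p j a = p j b) → a = b := fun a b hab => by
    obtain ⟨x, -, hu⟩ := hl (fun j => p j a) (fun {i j} g => by
      show ((sec Λ V).map (D.map g)) (((sec Λ V).map (limit.π D i)) a) = _
      rw [← ConcreteCategory.comp_apply, ← Functor.map_comp, limit.w])
    exact (hu a fun j => rfl).trans (hu b fun j => (hab j).symm).symm
  refine ⟨fun a b hab => funext fun n => hext _ _ fun j => ?_, fun y => ?_⟩
  · refine congrFun ((h j V hV).1 (a₁ := fun k => p j (a k)) (a₂ := fun k => p j (b k)) ?_) n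
    rw [delta_map f (p j) a, delta_map f (p j) b, hab]
  · choose x hx using fun j => (h j V hV).2 fun n => p j (y n)
    have hw : ∀ {i j : ℕᵒᵖ} (g : i ⟶ j) n, (sec Λ V).map (D.map g) (x i n) = x j n := fun {i j} g n => by
      refine congrFun ((h j V hV).1 (a₁ := fun k => ((sec Λ V).map (D.map g)).hom (x i k)) (a₂ := x j) ?_) n
      rw [delta_map f ((sec Λ V).map (D.map g)).hom (x i), hx i, hx j]
      funext k
      show ((sec Λ V).map (D.map g)) (((sec Λ V).map (limit.π D i)) (y k)) = _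
      rw [← ConcreteCategory.comp_apply, ← Functor.map_comp, limit.w]
    choose z hz using fun n => (hl (fun j => x j n) (fun g => hw g n)).exists
    refine ⟨z, funext fun n => hext _ _ fun j => ?_⟩
    rw [← congrFun (delta_map f (p j) z) n, ← congrFun (hx j) n]
    congr 1
    funext k
    exact hz k j

theorem isDCSheaf_limit (I : Ideal Λ) (D : ℕᵒᵖ ⥤ EtModW.ModP Λ X)
    (hD : ∀ n : ℕ, ProEtDC.IsDCSheaf Λ I (D.obj (op n))) : ProEtDC.IsDCSheaf Λ I (Limits.limit D) :=
  (isDCSheaf_iff I _).2 fun f hf => DCS.limit D fun j => (isDCSheaf_iff I _).1 (hD j.unop) f hf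

theorem isZero_of_modGensIsZero {r : ℕ} (a : Fin r → Λ) (F : EtModW.ModP Λ X)
    (hF : ProEtDC.IsDCSheaf Λ (Ideal.span (Set.range a)) F) (h0 : ProEtDC.ModGensIsZero Λ a F) :
    IsZero F := by
  refine isZero_of_wc F fun V hV x => eq_zero_of_sum_surjective a _
    (fun k => (isDCSheaf_iff _ F).1 hF (a k) (Ideal.subset_span ⟨k, rfl⟩) V hV) (fun m => ?_) x
  have : Epi (biproduct.desc fun k : Fin r => ProEtDC.smulHom Λ F (a k)) := h0
  obtain ⟨s, hs⟩ := sec_surjective Λ hV (biproduct.desc fun k : Fin r => ProEtDC.smulHom Λ F (a k)) m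
  refine ⟨fun k => (sec Λ V).map (biproduct.π (fun _ : Fin r => F) k) s, ?_⟩
  have hd : biproduct.desc (fun k : Fin r => ProEtDC.smulHom Λ F (a k)) =
      ∑ k, biproduct.π (fun _ : Fin r => F) k ≫ ProEtDC.smulHom Λ F (a k) := biproduct.desc_eq
  rw [hd, Functor.map_sum] at hs
  rw [← hs]
  simp [smulHom_eq, sec_map_smul, Linear.comp_smul]
  exact Finset.sum_congr rfl fun k _ => rfl

theorem smul_id_constantSheaf (a : Λ) (M : ModuleCat.{u + 1} Λ) (h : ∀ m : M, a • m = 0) :
    a • 𝟙 ((constantSheaf (Scheme.ProEt.topology X) (ModuleCat.{u + 1} Λ)).obj M) = 0 := by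
  apply ((sheafificationAdjunction (Scheme.ProEt.topology X) (ModuleCat.{u + 1} Λ)).homEquiv
    ((Functor.const _).obj M) _).injective
  rw [Adjunction.homEquiv_unit, Adjunction.homEquiv_unit]
  ext U m
  show a • ((toSheafify (Scheme.ProEt.topology X) ((Functor.const _).obj M)).app U).hom m = 0
  rw [← map_smul, show a • (show ((Functor.const X.ProEtᵒᵖ).obj M).obj U from m) = 0 from h m, map_zero]

theorem dcs_lambdaHat (I : Ideal Λ) {f : Λ} (hf : f ∈ I) : DCS f (ProEtDC.lambdaHat Λ X I) := by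
  refine DCS.limit _ fun j V _ => DCM.of_pow_smul_eq_zero (k := j.unop) fun m => ?_
  have h := smul_id_constantSheaf (X := X) (f ^ j.unop) ((ProEtDC.quotTower Λ I).obj j) (fun q => by
    obtain ⟨q, rfl⟩ := Submodule.Quotient.mk_surjective _ q
    show Submodule.Quotient.mk (f ^ j.unop • q) = 0
    exact (Submodule.Quotient.mk_eq_zero _).2
      (Submodule.smul_mem_smul (Ideal.pow_mem_pow hf _) Submodule.mem_top))
  have := congrArg (fun k => ((sec Λ V).map k) m) h
  exact this

end Groth.Agent.ProEtDCLib
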