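import Mathlib
import Groth.Agent.ProEtDCLib.Module

/-!
Infinite sums `Σ a^w • m_w` over words in derived complete modules, and the fact that they only
depend on the value of `Σ a^w c_w` in the completion, for a flat module `C` over a Noetherian ring.
-/

universe u v w

namespace Groth.Agent.ProEtDCLib

variable {Λ : Type u} [CommRing Λ]

theorem DCM.pi {f : Λ} {W : Type w} {M : Type v} [AddCommGroup M] [Module Λ M] (h : DCM f M) :
    DCM f (W → M) := by
  refine ⟨fun x y hxy => ?_, fun y => ?_⟩
  · funext n i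
    exact congrFun (h.1 (a₁ := fun k => x k i) (a₂ := fun k => y k i)
      (funext fun k => congrFun (congrFun hxy k) i)) n
  · choose x hx using fun i => h.2 fun k => y k i
    exact ⟨fun k i => x i k, funext fun k => funext fun i => congrFun (hx i) k⟩

variable {N : Type v} [AddCommGroup N] [Module Λ N]

theorem bijective_one_sub_smul {f : Λ} (h : DCM f N) (E : N →ₗ[Λ] N) :
    Function.Bijective (LinearMap.id - f • E : N →ₗ[Λ] N) := by
  refine ⟨(injective_iff_map_eq_zero _).2 fun x hx => ?_, fun y => ?_⟩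
  · have h0 := h.eq_zero (x := fun n => (E ^ n) x) fun n => by
      have hx' : x = f • E x := sub_eq_zero.1 hx
      conv_lhs => rw [hx']
      rw [map_smul, pow_succ]; rfl
    exact congrFun h0 0
  · obtain ⟨z, hz⟩ := h.2 fun n => (E ^ n) y
    have hE : (fun n => E (z n)) = fun n => z (n + 1) := by
      refine h.1 ?_
      rw [delta_map f E z, hz]
      funext n
      show E ((E ^ n) y) = delta f z (n + 1)
      rw [show delta f z (n + 1) = (fun n => (E ^ n) y) (n + 1) from congrFun hz _]
      beta_reduce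
      rw [pow_succ']; rfl
    refine ⟨z 0, ?_⟩
    have := congrFun hz 0
    rw [delta] at this
    simpa [congrFun hE 0] using this

/-- several commuting scalars, arbitrary endomorphisms -/
theorem bijective_one_sub_sum {r : ℕ} : ∀ (a : Fin r → Λ), (∀ k, DCM (a k) N) →
    ∀ (E : Fin r → N →ₗ[Λ] N), Function.Bijective (LinearMap.id - ∑ k, a k • E k : N →ₗ[Λ] N) := by
  induction r with
  | zero => intro a _ E; simp [Function.bijective_id]
  | succ r ih =>
    intro a h E
    let e := LinearEquiv.ofBijective _ (ih (fun k => a k.succ) (fun k => h k.succ) fun k => E k.succ)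
    have h1 := bijective_one_sub_smul (h 0) (e.symm.toLinearMap ∘ₗ E 0)
    have heq : (LinearMap.id - ∑ k, a k • E k : N →ₗ[Λ] N) =
        e.toLinearMap ∘ₗ (LinearMap.id - a 0 • (e.symm.toLinearMap ∘ₗ E 0)) := by
      refine LinearMap.ext fun x => ?_
      simp only [LinearMap.comp_apply, LinearMap.sub_apply, LinearMap.id_apply, LinearMap.smul_apply,
        LinearEquiv.coe_coe, map_sub, map_smul, LinearEquiv.apply_symm_apply]
      simp only [e, LinearEquiv.ofBijective_apply, LinearMap.sub_apply, LinearMap.id_apply,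
        Fin.sum_univ_succ, LinearMap.add_apply, LinearMap.sum_apply, LinearMap.smul_apply]
      abel
    rw [heq]
    exact e.bijective.comp h1

variable {M : Type v} [AddCommGroup M] [Module Λ M] {r : ℕ} (a : Fin r → Λ)

/-- divisible families are zero -/
theorem eq_zero_of_eq_sum (hdc : ∀ k, DCM (a k) M) {G : Type w} (φ : G → M) (g : Fin r → G → G)
    (h : ∀ x, φ x = ∑ i, a i • φ (g i x)) : φ = 0 := by
  refine (bijective_one_sub_sum a (fun k => (hdc k).pi (W := G)) fun i =>
    LinearMap.funLeft Λ M (g i)).1 ?_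
  rw [map_zero]
  funext x
  simp [LinearMap.sum_apply, LinearMap.funLeft_apply, ← h x]

section Series

variable (M) in
/-- `x ↦ (x w - Σ a i • x (i :: w))` -/
noncomputable def delW : (List (Fin r) → M) →ₗ[Λ] (List (Fin r) → M) :=
  LinearMap.id - ∑ i, a i • LinearMap.funLeft Λ M (fun l => i :: l)

theorem delW_apply (x : List (Fin r) → M) (l : List (Fin r)) :
    delW M a x l = x l - ∑ i, a i • x (i :: l) := by
  simp [delW, LinearMap.sum_apply, LinearMap.funLeft_apply]

variable {a}

theorem delW_bijective (hdc : ∀ k, DCM (a k) M) : Function.Bijective (delW M a) :=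
  bijective_one_sub_sum a (fun k => (hdc k).pi) _

/-- the infinite sum `Σ a^w • m w` -/
noncomputable def wsum (hdc : ∀ k, DCM (a k) M) : (List (Fin r) → M) →ₗ[Λ] M :=
  LinearMap.proj [] ∘ₗ (LinearEquiv.ofBijective _ (delW_bijective hdc)).symm.toLinearMap

theorem wsum_eq (hdc : ∀ k, DCM (a k) M) (m : List (Fin r) → M) :
    wsum hdc m = m [] + ∑ i, a i • wsum hdc (fun l => m (l ++ [i])) := by
  let e := LinearEquiv.ofBijective _ (delW_bijective hdc)
  let x := e.symm m
  have hx : delW M a x = m := e.apply_symm_apply m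
  have hshift : ∀ i, e.symm (fun l => m (l ++ [i])) = fun l => x (l ++ [i]) := fun i => by
    rw [LinearEquiv.symm_apply_eq]
    funext l
    show m (l ++ [i]) = delW M a (fun l => x (l ++ [i])) l
    rw [← hx, delW_apply, delW_apply]
    rfl
  show x [] = m [] + ∑ i, a i • e.symm (fun l => m (l ++ [i])) []
  simp only [hshift]
  rw [← hx, delW_apply]
  simp

variable (a) in
/-- the partial sums `Σ_{|w| < n} a^w • c w` -/
def psum {C : Type*} [AddCommGroup C] [Module Λ C] : ℕ → (List (Fin r) → C) → C
  | 0, _ => 0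
  | n + 1, c => c [] + ∑ i, a i • psum n (fun l => c (l ++ [i]))

variable {C : Type*} [AddCommGroup C] [Module Λ C]

theorem psum_sub (n : ℕ) (c c' : List (Fin r) → C) :
    psum a n (c - c') = psum a n c - psum a n c' := by
  induction n generalizing c c' with
  | zero => simp [psum]
  | succ n ih =>
    simp only [psum, Pi.sub_apply]
    rw [show (fun i => a i • psum a n fun l => c (l ++ [i]) - c' (l ++ [i])) =
      fun i => a i • psum a n (fun l => c (l ++ [i])) - a i • psum a n (fun l => c' (l ++ [i])) from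
      funext fun i => by rw [← smul_sub, ← ih]; rfl, Finset.sum_sub_distrib]
    abel

theorem psum_smul (n : ℕ) (t : Λ) (c : List (Fin r) → C) : psum a n (t • c) = t • psum a n c := by
  induction n generalizing c with
  | zero => simp [psum]
  | succ n ih =>
    simp only [psum, Pi.smul_apply, smul_add, Finset.smul_sum]
    congr 1
    refine Finset.sum_congr rfl fun i _ => ?_
    rw [smul_comm, ← ih]
    rfl

theorem psum_add (n : ℕ) (c c' : List (Fin r) → C) :
    psum a n (c + c') = psum a n c + psum a n c' := by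
  have h := psum_sub (a := a) n (c + c') c'
  rw [add_sub_cancel_right] at h
  rw [h, sub_add_cancel]

theorem psum_map {D : Type*} [AddCommGroup D] [Module Λ D] (φ : C →ₗ[Λ] D) (n : ℕ)
    (c : List (Fin r) → C) : psum a n (fun l => φ (c l)) = φ (psum a n c) := by
  induction n generalizing c with
  | zero => simp [psum]
  | succ n ih =>
    simp only [psum, map_add, map_sum, map_smul]
    congr 1
    exact Finset.sum_congr rfl fun i _ => by rw [← ih]

local notation "𝔞" => Ideal.span (Set.range a)

theorem mem_span_smul {m : ℕ} {y : C} (hy : y ∈ (𝔞 ^ (m + 1)) • (⊤ : Submodule Λ C)) :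
    ∃ z : Fin r → C, (∀ i, z i ∈ (𝔞 ^ m) • (⊤ : Submodule Λ C)) ∧ ∑ i, a i • z i = y := by
  rw [pow_succ', Submodule.mul_smul] at hy
  refine Submodule.smul_induction_on hy (fun t ht z hz => ?_) ?_
  · obtain ⟨s, rfl⟩ := (Ideal.mem_span_range_iff_exists_fun).1 ht
    refine ⟨fun i => s i • z, fun i => Submodule.smul_mem _ _ hz, ?_⟩
    rw [Finset.sum_smul]
    exact Finset.sum_congr rfl fun i _ => by rw [smul_smul, mul_comm]
  · rintro _ _ ⟨z, hz, rfl⟩ ⟨z', hz', rfl⟩
    refine ⟨z + z', fun i => add_mem (hz i) (hz' i), ?_⟩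
    simp [smul_add, Finset.sum_add_distrib]

theorem smul_mem_pow_succ {m : ℕ} {y : C} (i : Fin r) (hy : y ∈ (𝔞 ^ m) • (⊤ : Submodule Λ C)) :
    a i • y ∈ (𝔞 ^ (m + 1)) • (⊤ : Submodule Λ C) := by
  rw [pow_succ', Submodule.mul_smul]
  exact Submodule.smul_mem_smul (Ideal.subset_span ⟨i, rfl⟩) hy

theorem psum_succ_sub_mem (n : ℕ) (c : List (Fin r) → C) :
    psum a (n + 1) c - psum a n c ∈ (𝔞 ^ n) • (⊤ : Submodule Λ C) := by
  induction n generalizing c with
  | zero => simp
  | succ n ih =>
    have : psum a (n + 1 + 1) c - psum a (n + 1) c =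
        ∑ i, a i • (psum a (n + 1) (fun l => c (l ++ [i])) - psum a n (fun l => c (l ++ [i]))) := by
      simp only [smul_sub, Finset.sum_sub_distrib]
      rw [psum, psum]
      abel
    rw [this]
    exact Submodule.sum_mem _ fun i _ => smul_mem_pow_succ i (ih _)

theorem exists_psum_eq (h : ℕ → C) (h0 : h 0 = 0)
    (hh : ∀ n, h (n + 1) - h n ∈ (𝔞 ^ n) • (⊤ : Submodule Λ C)) :
    ∃ c : List (Fin r) → C, ∀ n, psum a n c = h n := by
  let T := {h : ℕ → C // h 0 = 0 ∧ ∀ n, h (n + 1) - h n ∈ (𝔞 ^ n) • (⊤ : Submodule Λ C)}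
  have step : ∀ g : T, ∃ g' : Fin r → T, ∀ n, g.1 (n + 1) = g.1 1 + ∑ i, a i • (g' i).1 n := by
    intro g
    choose z hz hz' using fun n => mem_span_smul (g.2.2 (n + 1))
    refine ⟨fun i => ⟨fun n => ∑ m ∈ Finset.range n, z m i, by simp, fun n => ?_⟩, fun n => ?_⟩
    · simpa [Finset.sum_range_succ] using hz n i
    · simp only [Finset.smul_sum]
      rw [Finset.sum_comm]
      simp only [hz']
      rw [Finset.sum_range_sub (fun m => g.1 (m + 1))]
      abel
  choose g hg using step
  let rec' : List (Fin r) → T := fun l => l.foldr (fun i acc => g acc i) ⟨h, h0, hh⟩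
  refine ⟨fun l => (rec' l).1 1, fun n => ?_⟩
  have key : ∀ n l, psum a n (fun m => (rec' (m ++ l)).1 1) = (rec' l).1 n := by
    intro n
    induction n with
    | zero => intro l; exact (rec' l).2.1.symm
    | succ n ih =>
      intro l
      rw [psum, hg (rec' l) n]
      congr 1
      refine Finset.sum_congr rfl fun i _ => congrArg (a i • ·) ?_
      simp only [List.append_assoc, List.singleton_append]
      exact ih (i :: l)
  simpa [rec'] using key n []

variable (a)

theorem exists_relation_series [IsNoetherianRing Λ] [Module.Flat Λ C] (e : Fin r → ℕ → C)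
    (he : ∀ i n, e i (n + 1) - e i n ∈ (𝔞 ^ n) • (⊤ : Submodule Λ C))
    (hrel : ∀ n, ∑ i, a i • e i n ∈ (𝔞 ^ (n + 1)) • (⊤ : Submodule Λ C)) :
    ∃ (s : ℕ) (R : Fin s → Fin r → Λ) (u : Fin s → List (Fin r) → C),
      (∀ j, ∑ i, a i * R j i = 0) ∧
      ∀ i n, e i n - ∑ j, R j i • psum a n (u j) ∈ (𝔞 ^ n) • (⊤ : Submodule Λ C) := by
  let A : (Fin r → Λ) →ₗ[Λ] Λ := ∑ i, a i • LinearMap.proj i
  let Rel : Submodule Λ (Fin r → Λ) := LinearMap.ker A
  obtain ⟨k, hk⟩ := Ideal.exists_pow_inf_eq_pow_smul (Ideal.span (Set.range a)) Rel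
  obtain ⟨s, R, hR⟩ := Submodule.fg_iff_exists_fin_generating_family.1 (IsNoetherian.noetherian Rel)
  have hA : ∀ v, A v = ∑ i, a i * v i := fun v => by simp [A, LinearMap.sum_apply]
  have hRA : ∀ j, ∑ i, a i * R j i = 0 := fun j => by
    rw [← hA]
    exact (hR ▸ Submodule.subset_span ⟨j, rfl⟩ : R j ∈ Rel)
  -- exactness after tensoring with `C`
  have hflat : ∀ {p q : ℕ} (G : Fin q → Fin p → Λ) (c : Fin q → C), (∀ t, ∑ l, G l t • c l = 0) →
      ∃ (m : ℕ) (K : Fin m → Fin q → Λ) (d : Fin m → C),
        (∀ j t, ∑ l, K j l * G l t = 0) ∧ ∀ l, c l = ∑ j, K j l • d j := by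
    intro p q G c hc
    obtain ⟨m, c', K, h1, h2⟩ : ∃ (m : ℕ) (a₁ : (Fin q → Λ) →ₗ[Λ] (Fin m → Λ))
        (y : (Fin m → Λ) →ₗ[Λ] C),
        Fintype.linearCombination Λ c = y ∘ₗ a₁ ∧ ∀ t, a₁ (fun l => G l t) = 0 := by
      have hle : ∀ t, (fun l => G l t) ∈ LinearMap.ker (Fintype.linearCombination Λ c) := fun t => by
        simpa [Fintype.linearCombination_apply] using hc t
      obtain ⟨m, a₁, y, h1, h2⟩ := Module.Flat.exists_factorization_of_comp_eq_zero_of_free
        (K := Fin p → Λ) (N := Fin q → Λ) (M := C)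
        (f := Fintype.linearCombination Λ fun t : Fin p => fun l => G l t)
        (x := Fintype.linearCombination Λ c)
        (LinearMap.pi_ext' fun t => LinearMap.ext_ring (by
          simp only [LinearMap.comp_apply, LinearMap.single_apply,
            Fintype.linearCombination_apply_single, one_smul, LinearMap.zero_comp,
            LinearMap.zero_apply, Fintype.linearCombination_apply]
          simpa [Fintype.linearCombination_apply, Pi.single_apply, Finset.sum_apply,
            apply_ite, ite_apply] using hc t))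
      let eF := Finsupp.linearEquivFunOnFinite Λ Λ (Fin m)
      refine ⟨m, eF.toLinearMap ∘ₗ a₁, y ∘ₗ eF.symm.toLinearMap, ?_, fun t => ?_⟩
      · rw [h1]; ext v; simp
      · have h3 := LinearMap.congr_fun h2 (Pi.single t 1)
        rw [LinearMap.comp_apply, Fintype.linearCombination_apply_single, one_smul,
          LinearMap.zero_apply] at h3
        rw [LinearMap.comp_apply, h3, map_zero]
    refine ⟨m, fun j l => c' (Pi.single l 1) j, fun j => K (Pi.single j 1), fun j t => ?_, fun l => ?_⟩
    · have h3 := congrFun (h2 t) j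
      have h4 : (fun l => G l t) = ∑ l, G l t • Pi.single l (1 : Λ) := by
        funext l; simp [Finset.sum_apply, Pi.single_apply]
      rw [h4, map_sum] at h3
      simp only [Finset.sum_apply, map_smul, Pi.smul_apply, smul_eq_mul, Pi.zero_apply] at h3
      rw [← h3]
      exact Finset.sum_congr rfl fun l _ => mul_comm _ _
    · have h3 := LinearMap.congr_fun h1 (Pi.single l 1)
      rw [Fintype.linearCombination_apply_single, one_smul] at h3
      rw [h3, LinearMap.comp_apply]
      conv_lhs => rw [pi_eq_sum_univ' (c' (Pi.single l 1))]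
      simp [map_sum]
  -- relations
  have hrel' : ∀ c : Fin r → C, ∑ i, a i • c i = 0 → ∃ h : Fin s → C, ∀ i, c i = ∑ j, R j i • h j := by
    intro c hc
    obtain ⟨m, K, d, hK, hd⟩ := hflat (p := 1) (fun l _ => a l) c (fun _ => hc)
    have hmem : ∀ j, K j ∈ Submodule.span Λ (Set.range R) := fun j => hR ▸ LinearMap.mem_ker.2 (by
      rw [hA, ← hK j 0]; exact Finset.sum_congr rfl fun l _ => mul_comm _ _)
    choose t ht using fun j => Submodule.mem_span_range_iff_exists_fun Λ |>.1 (hmem j)
    refine ⟨fun l => ∑ j, t j l • d j, fun i => ?_⟩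
    rw [hd i]
    simp only [Finset.smul_sum, smul_smul]
    rw [Finset.sum_comm]
    refine Finset.sum_congr rfl fun j _ => ?_
    rw [← Finset.sum_smul, ← congrFun (ht j) i]
    simp [Finset.sum_apply, mul_comm]
  choose z hz hz' using fun n => mem_span_smul (hrel n)
  choose h hh using fun n => hrel' (fun i => e i n - z n i) (by
    simp only [smul_sub, Finset.sum_sub_distrib, hz' n, sub_self])
  -- Artin-Rees
  have hstep : ∀ n, ∃ d : Fin s → C, (∀ j, d j ∈ (𝔞 ^ n) • (⊤ : Submodule Λ C)) ∧
      ∀ i, ∑ j, R j i • (h (n + k + 1) j - h (n + k) j) = ∑ j, R j i • d j := by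
    intro n
    let c : Fin r → C := fun i => ∑ j, R j i • (h (n + k + 1) j - h (n + k) j)
    have hc : ∀ i, c i ∈ (𝔞 ^ (n + k)) • (⊤ : Submodule Λ C) := fun i => by
      have : c i = (e i (n + k + 1) - e i (n + k)) - z (n + k + 1) i + z (n + k) i := by
        simp only [c, smul_sub, Finset.sum_sub_distrib, ← hh]
        abel
      rw [this]
      exact add_mem (sub_mem (he i _) (Submodule.smul_mono_left (Ideal.pow_le_pow_right (Nat.le_succ _)) (hz _ i))) (hz _ i)
    obtain ⟨q, g, hg⟩ := Submodule.fg_iff_exists_fin_generating_family.1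
      (IsNoetherian.noetherian (𝔞 ^ (n + k) : Ideal Λ))
    have hex : ∀ i, ∃ b : Fin q → C, ∑ l, g l • b l = c i := fun i => by
      refine Submodule.smul_induction_on (hc i) (fun t ht y _ => ?_) ?_
      · obtain ⟨b, rfl⟩ := Submodule.mem_span_range_iff_exists_fun Λ |>.1 (hg ▸ ht)
        refine ⟨fun l => b l • y, ?_⟩
        rw [Finset.sum_smul]
        exact Finset.sum_congr rfl fun l _ => by rw [smul_smul, mul_comm, smul_eq_mul]
      · rintro _ _ ⟨b, rfl⟩ ⟨b', rfl⟩
        exact ⟨b + b', by simp [smul_add, Finset.sum_add_distrib]⟩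
    choose b hb using hex
    -- the relation between the two expressions of `c`
    let e₂ : Fin s ⊕ Fin r × Fin q ≃ Fin (Fintype.card (Fin s ⊕ Fin r × Fin q)) := Fintype.equivFin _
    let G : Fin s ⊕ Fin r × Fin q → Fin r → Λ :=
      Sum.elim R fun il => Pi.single il.1 (- g il.2)
    let C₂ : Fin s ⊕ Fin r × Fin q → C :=
      Sum.elim (fun j => h (n + k + 1) j - h (n + k) j) fun il => b il.1 il.2
    obtain ⟨m, K, d, hK, hd⟩ := hflat (fun l => G (e₂.symm l)) (fun l => C₂ (e₂.symm l)) (fun i => by
      rw [e₂.symm.sum_comp (fun x => G x i • C₂ x), Fintype.sum_sum_type, Fintype.sum_prod_type]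
      have : ∑ i', ∑ l, (G (Sum.inr (i', l)) i) • C₂ (Sum.inr (i', l)) = - c i := by
        rw [Finset.sum_eq_single i (fun i' _ hne => by simp [G, Pi.single_eq_of_ne hne.symm]) (by simp),
          ← hb i, ← Finset.sum_neg_distrib]
        simp [G, C₂, neg_smul]
      rw [this]
      exact add_neg_cancel (c i))
    let v : Fin m → Fin r → Λ := fun j i => ∑ x, K j (e₂ (Sum.inl x)) * R x i
    have hv : ∀ j, v j ∈ (𝔞 ^ n) • Rel := fun j => by
      have hsum : ∀ i, v j i = ∑ l, K j (e₂ (Sum.inr (i, l))) * g l := fun i => by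
        have h0 := hK j i
        rw [← e₂.sum_comp (fun l => K j l * G (e₂.symm l) i)] at h0
        simp only [Equiv.symm_apply_apply, Fintype.sum_sum_type, Fintype.sum_prod_type] at h0
        rw [Finset.sum_eq_single (f := fun i' => ∑ l, K j (e₂ (Sum.inr (i', l))) *
          G (Sum.inr (i', l)) i) i (fun i' _ hne => by simp [G, Pi.single_eq_of_ne hne.symm]) (by simp)] at h0
        simp only [G, Sum.elim_inl, Sum.elim_inr, Pi.single_eq_same, mul_neg,
          Finset.sum_neg_distrib] at h0
        exact sub_eq_zero.1 ((sub_eq_add_neg _ _).trans h0)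
      have h1 : v j ∈ (𝔞 ^ (n + k)) • (⊤ : Submodule Λ (Fin r → Λ)) := by
        rw [pi_eq_sum_univ' (v j)]
        refine Submodule.sum_mem _ fun i _ => Submodule.smul_mem_smul ?_ Submodule.mem_top
        rw [hsum i, ← hg]
        exact Submodule.sum_mem _ fun l _ => Submodule.smul_mem _ _ (Submodule.subset_span ⟨l, rfl⟩)
      have h2 : v j ∈ Rel := by
        have : v j = ∑ x, K j (e₂ (Sum.inl x)) • R x := by funext i; simp [v, Finset.sum_apply]
        rw [this]
        exact Submodule.sum_mem _ fun x _ => Rel.smul_mem _ (hR ▸ Submodule.subset_span ⟨x, rfl⟩)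
      have h3 : v j ∈ (𝔞 ^ (n + k)) • (⊤ : Submodule Λ (Fin r → Λ)) ⊓ Rel := ⟨h1, h2⟩
      rw [hk (n + k) (Nat.le_add_left k n), Nat.add_sub_cancel] at h3
      exact Submodule.smul_mono le_rfl inf_le_right h3
    have hw : ∀ j, ∃ w : Fin s → Λ, (∀ x, w x ∈ 𝔞 ^ n) ∧ ∑ x, w x • R x = v j := fun j => by
      have := hv j
      rw [← hR] at this
      refine Submodule.smul_induction_on this (fun t ht y hy => ?_) ?_
      · obtain ⟨w, rfl⟩ := Submodule.mem_span_range_iff_exists_fun Λ |>.1 hy
        exact ⟨fun x => t * w x, fun x => Ideal.mul_mem_right _ _ ht, by simp [Finset.smul_sum, smul_smul]⟩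
      · rintro _ _ ⟨w, hw, rfl⟩ ⟨w', hw', rfl⟩
        exact ⟨w + w', fun x => add_mem (hw x) (hw' x), by simp [add_smul, Finset.sum_add_distrib]⟩
    choose w hw hw' using hw
    refine ⟨fun x => ∑ j, w j x • d j, fun x => Submodule.sum_mem _ fun j _ =>
      Submodule.smul_mem_smul (hw j x) Submodule.mem_top, fun i => ?_⟩
    show c i = _
    have hc' : c i = ∑ j, v j i • d j := by
      simp only [v, Finset.sum_smul, c]
      rw [Finset.sum_comm]
      refine Finset.sum_congr rfl fun x _ => ?_
      rw [show h (n + k + 1) x - h (n + k) x = C₂ (e₂.symm (e₂ (Sum.inl x))) by simp [C₂], hd,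
        Finset.smul_sum]
      exact Finset.sum_congr rfl fun j _ => by rw [smul_smul, mul_comm]
    rw [hc']
    simp only [← hw', Finset.sum_apply, Pi.smul_apply, smul_eq_mul, Finset.sum_smul, Finset.smul_sum,
      smul_smul]
    rw [Finset.sum_comm]
    exact Finset.sum_congr rfl fun x _ => Finset.sum_congr rfl fun j _ => by rw [mul_comm]
  choose d hd hd' using hstep
  let H : Fin s → ℕ → C := fun j n => if n = 0 then 0 else h k j + ∑ m ∈ Finset.range n, d m j
  have hH : ∀ j n, H j (n + 1) - H j n ∈ (𝔞 ^ n) • (⊤ : Submodule Λ C) := fun j n => by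
    cases n with
    | zero => simp
    | succ n => simpa [H, Finset.sum_range_succ _ (n + 1)] using hd (n + 1) j
  choose u hu using fun j => exists_psum_eq (a := a) (H j) (by simp [H]) (hH j)
  refine ⟨s, R, u, hRA, fun i n => ?_⟩
  cases n with
  | zero => simp
  | succ n =>
    have h1 : ∀ m, ∑ j, R j i • (h k j + ∑ l ∈ Finset.range m, d l j) = ∑ j, R j i • h (m + k) j := by
      intro m
      induction m with
      | zero => simp
      | succ m ih =>
        simp only [Finset.sum_range_succ, ← add_assoc, smul_add, Finset.sum_add_distrib] at ih ⊢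
        rw [ih, ← hd' m i]
        simp only [smul_sub, Finset.sum_sub_distrib]
        rw [show m + 1 + k = m + k + 1 by omega]
        abel
    simp only [hu, H, Nat.succ_ne_zero, if_false]
    rw [h1, ← hh]
    have htel : ∀ q, e i (n + 1 + q) - e i (n + 1) ∈ (𝔞 ^ (n + 1)) • (⊤ : Submodule Λ C) := by
      intro q
      induction q with
      | zero => simp
      | succ q ih =>
        have := add_mem (Submodule.smul_mono_left (Ideal.pow_le_pow_right (by omega)) (he i (n + 1 + q))) ih
        simpa [← add_assoc] using this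
    have := sub_mem (Submodule.smul_mono_left (Ideal.pow_le_pow_right (by omega)) (hz (n + 1 + k) i))
      (htel k)
    rw [show e i (n + 1) - (e i (n + 1 + k) - z (n + 1 + k) i) =
      z (n + 1 + k) i - (e i (n + 1 + k) - e i (n + 1)) by abel]
    exact this

/-- `ψ` vanishes on families with vanishing value in the completion -/
theorem wsum_eq_zero [IsNoetherianRing Λ] [Module.Flat Λ C] (hdc : ∀ k, DCM (a k) M) (φ : C →ₗ[Λ] M)
    (p : List (Fin r) → C) (hp : ∀ n, psum a n p ∈ (𝔞 ^ n) • (⊤ : Submodule Λ C)) :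
    wsum hdc (fun l => φ (p l)) = 0 := by
  let K := {p : List (Fin r) → C // ∀ n, psum a n p ∈ (𝔞 ^ n) • (⊤ : Submodule Λ C)}
  let ψ : K → M := fun p => wsum hdc fun l => φ (p.1 l)
  suffices ∀ p : K, ∃ q : Fin r → K, ψ p = ∑ i, a i • ψ (q i) by
    choose g hg using this
    exact congrFun (eq_zero_of_eq_sum a hdc ψ (fun i p => g p i) hg) ⟨p, hp⟩
  intro p
  have h1 : p.1 [] ∈ (𝔞 ^ 1) • (⊤ : Submodule Λ C) := by simpa [psum] using
    (show psum a 1 p.1 ∈ _ from p.2 1)
  obtain ⟨b, -, hb⟩ := mem_span_smul (m := 0) h1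
  let one : Fin r → List (Fin r) → C := fun i l => if l = [] then b i else 0
  have hone : ∀ i n, psum a (n + 1) (one i) = b i := fun i n => by
    have hz : ∀ m, psum a m (0 : List (Fin r) → C) = 0 := fun m => by
      simpa using psum_sub (a := a) m 0 (0 : List (Fin r) → C)
    have : ∀ j, (fun l => one i (l ++ [j])) = (0 : List (Fin r) → C) := fun j => funext fun l => by
      simp [one]
    simp only [psum, this, hz, smul_zero, Finset.sum_const_zero, add_zero]
    simp [one]
  let q : Fin r → List (Fin r) → C := fun i => (fun l => p.1 (l ++ [i])) + one i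
  obtain ⟨s, R, u, hR, hu⟩ := exists_relation_series a (fun i n => psum a n (q i))
    (fun i n => psum_succ_sub_mem n _) (fun n => by
      cases n with
      | zero => simp [psum]
      | succ n =>
        have : ∑ i, a i • psum a (n + 1) (q i) = psum a (n + 1 + 1) p.1 := by
          conv_rhs => rw [psum, ← hb]
          simp only [q, psum_add, hone, smul_add, Finset.sum_add_distrib]
          rw [add_comm]
        rw [this]; exact p.2 _)
  have hcomb : ∀ i n, psum a n (q i - ∑ j, R j i • u j) = psum a n (q i) - ∑ j, R j i • psum a n (u j) := by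
    intro i n
    let P : (List (Fin r) → C) →ₗ[Λ] C :=
      { toFun := psum a n, map_add' := psum_add n, map_smul' := fun t c => psum_smul n t c }
    show P (q i - ∑ j, R j i • u j) = P (q i) - ∑ j, R j i • P (u j)
    simp [map_sum]
  refine ⟨fun i => ⟨q i - ∑ j, R j i • u j, fun n => (hcomb i n).symm ▸ hu i n⟩, ?_⟩
  let L : (List (Fin r) → C) →ₗ[Λ] M := wsum hdc ∘ₗ φ.compLeft (List (Fin r))
  have hL : ∀ c, wsum hdc (fun l => φ (c l)) = L c := fun c => rfl
  show wsum hdc (fun l => φ (p.1 l)) = ∑ i, a i • wsum hdc (fun l => φ ((q i - ∑ j, R j i • u j) l))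
  simp only [hL, map_sub, map_sum, map_smul, smul_sub, Finset.sum_sub_distrib, Finset.smul_sum, smul_smul]
  rw [Finset.sum_comm (f := fun i j => (a i * R j i) • L (u j))]
  simp only [← Finset.sum_smul, hR, zero_smul, Finset.sum_const_zero, sub_zero]
  have hq : ∀ i, L (q i) = wsum hdc (fun l => φ (p.1 (l ++ [i]))) + φ (b i) := fun i => by
    simp only [q, map_add]
    congr 1
    rw [← hL, wsum_eq]
    have : ∀ j, (fun l => φ (one i (l ++ [j]))) = (0 : List (Fin r) → M) := fun j => funext fun l => by
      simp [one]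
    simp only [this, map_zero, smul_zero, Finset.sum_const_zero, add_zero]
    simp [one]
  simp only [hq, smul_add, Finset.sum_add_distrib, ← map_smul φ, ← map_sum φ, hb]
  rw [← hL, wsum_eq hdc (fun l => φ (p.1 l))]
  rw [add_comm]

theorem wsum_single (hdc : ∀ k, DCM (a k) M) (x : M) :
    wsum hdc (fun l => if l = [] then x else 0) = x := by
  rw [wsum_eq]
  have : ∀ i, (fun l : List (Fin r) => if l ++ [i] = [] then x else 0) = (0 : List (Fin r) → M) :=
    fun i => funext fun l => by simp
  simp [this]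
  rw [show wsum hdc (fun _ : List (Fin r) => (0 : M)) = 0 from map_zero (wsum hdc)]
  simp

end Series

end Groth.Agent.ProEtDCLib
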