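import Mathlib
import Groth.Agent.ProEtDCLib.Main
import Groth.Agent.ProEtDCLib.Series

/-!
The completed constant sheaf maps to derived complete sheaves: every morphism `Λ ⟶ F` from the
constant sheaf extends to `lambdaHat ⟶ F`, for a Noetherian ring `Λ`.
-/

universe u

open CategoryTheory CategoryTheory.Limits AlgebraicGeometry Opposite

namespace Groth.Agent.ProEtDCLib

set_option backward.isDefEq.respectTransparency.types false
set_option backward.isDefEq.respectTransparency false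
set_option backward.defeqAttrib.useBackward true

variable (Λ : Type (u + 1)) [CommRing Λ] (X : Scheme.{u})

/-- constant sheaves of modules -/
noncomputable abbrev cst : ModuleCat.{u + 1} Λ ⥤ EtModW.ModP Λ X :=
  constantSheaf (Scheme.ProEt.topology X) (ModuleCat.{u + 1} Λ)

/-- the constant sheaf with value the ring -/
noncomputable abbrev cstR : EtModW.ModP Λ X := (cst Λ X).obj (ModuleCat.of Λ Λ)

variable {Λ X}

/-- the final object -/
noncomputable def isTerminalTopP : IsTerminal (ProEtS.topP X) :=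
  IsTerminal.ofUniqueHom (fun U => (MorphismProperty.Over.homMk U.hom (Category.comp_id _) :
      U ⟶ ProEtS.topP X))
    fun U m => MorphismProperty.Over.Hom.ext
      ((Category.comp_id m.left).symm.trans (MorphismProperty.Over.w m))

instance isLeftAdjoint_cst : (cst Λ X).IsLeftAdjoint :=
  ⟨_, ⟨constantSheafAdj (Scheme.ProEt.topology X) (ModuleCat.{u + 1} Λ) isTerminalTopP⟩⟩

theorem cst_map_smul {M N : ModuleCat.{u + 1} Λ} (c : Λ) (f : M ⟶ N) :
    (cst Λ X).map (c • f) = c • (cst Λ X).map f := by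
  apply ((sheafificationAdjunction (Scheme.ProEt.topology X) (ModuleCat.{u + 1} Λ)).homEquiv
    ((Functor.const _).obj M) _).injective
  rw [Adjunction.homEquiv_unit, Adjunction.homEquiv_unit]
  refine ((sheafificationAdjunction (Scheme.ProEt.topology X) (ModuleCat.{u + 1} Λ)).unit.naturality
    ((Functor.const _).map (c • f))).symm.trans ?_
  ext U m
  have h := NatTrans.congr_app
    ((sheafificationAdjunction (Scheme.ProEt.topology X) (ModuleCat.{u + 1} Λ)).unit.naturality
      ((Functor.const X.ProEtᵒᵖ).map f)) U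
  show ((toSheafify (Scheme.ProEt.topology X) ((Functor.const _).obj N)).app U).hom (c • f.hom m) = _
  rw [map_smul]
  exact congrArg (c • ·) (congrArg (fun k => k.hom m) h)

theorem hom_ext_of_wc {F G : EtModW.ModP Λ X} (φ ψ : F ⟶ G)
    (h : ∀ V : X.ProEt, ProEtS.IsWC V → ∀ x, (sec Λ V).map φ x = (sec Λ V).map ψ x) : φ = ψ := by
  ext U x
  obtain ⟨V, g, hg, hV⟩ := ProEtLib.exists_wc_cover U.unop
  have hG := (((isSheaf_iff_isSheaf_of_type _ _).1
    ((sheafCompose _ (forget (ModuleCat.{u + 1} Λ))).obj G).2) _ hg)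
  refine ((Presieve.isSheafFor_iff_generate _).2 hG).isSeparatedFor.ext ?_
  rintro _ _ ⟨⟩
  exact ((NatTrans.naturality_apply φ.hom g.op x).symm.trans (h V hV _)).trans
    (NatTrans.naturality_apply ψ.hom g.op x)

/-- sections of a product -/
theorem bijective_sec_fan {V : X.ProEt} {W : Type} (F : W → EtModW.ModP Λ X) :
    Function.Bijective fun (x : (sec Λ V).obj (∏ᶜ F)) w => (sec Λ V).map (Pi.π F w) x := by
  let G := sec Λ V ⋙ forget (ModuleCat.{u + 1} Λ)
  have hlim := isLimitFanMkObjOfIsLimit G F (Pi.π _) (productIsProduct _)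
  have h := (Types.isLimit_iff _).1 ⟨hlim⟩
  refine ⟨fun a b hab => ?_, fun y => ?_⟩
  · obtain ⟨x, -, hu⟩ := h (fun j => G.map (Pi.π F j.as) a) (by
      rintro ⟨i⟩ ⟨j⟩ ⟨⟨⟨⟩⟩⟩; exact congrArg (G.map (Pi.π F i)) rfl |>.trans (by simp))
    exact (hu a fun j => rfl).trans (hu b fun j => (congrFun hab j.as).symm).symm
  · obtain ⟨x, hx, -⟩ := h (fun j => y j.as) (by rintro ⟨i⟩ ⟨j⟩ ⟨⟨⟨⟩⟩⟩; simp)
    exact ⟨x, funext fun n => hx ⟨n⟩⟩

section Flat

variable {V : X.ProEt}

theorem exists_of_exact_cst (hV : ProEtS.IsWC V) {k : ℕ} {N₁ N₂ : ModuleCat.{u + 1} Λ}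
    (g : Fin k → (ModuleCat.of Λ Λ ⟶ N₁)) (p : N₁ ⟶ N₂) (hgp : ∀ j, g j ≫ p = 0)
    (hker : ∀ x, p x = 0 → ∃ c : Fin k → Λ, ∑ j, g j (c j) = x)
    (z : (sec Λ V).obj ((cst Λ X).obj N₁)) (hz : (sec Λ V).map ((cst Λ X).map p) z = 0) :
    ∃ y : Fin k → (sec Λ V).obj (cstR Λ X),
      z = ∑ j, (sec Λ V).map ((cst Λ X).map (g j)) (y j) := by
  have : PreservesFiniteLimits (cst Λ X) :=
    inferInstanceAs (PreservesFiniteLimits (Functor.const _ ⋙ presheafToSheaf _ _))
  have : PreservesFiniteColimits (cst Λ X) := inferInstance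
  have : (cst Λ X).PreservesZeroMorphisms := inferInstance
  let P : ModuleCat.{u + 1} Λ := ModuleCat.of Λ (Fin k → Λ)
  let q : Fin k → (P ⟶ ModuleCat.of Λ Λ) := fun j => ModuleCat.ofHom (LinearMap.proj j)
  let G : P ⟶ N₁ := ∑ j, q j ≫ g j
  have hG : ∀ c : Fin k → Λ, G c = ∑ j, g j (c j) := fun c => by
    simp [G, q, LinearMap.sum_apply]
    rfl
  let S := ShortComplex.mk G p (by simp [G, Preadditive.sum_comp, hgp])
  have hS : S.Exact := (ShortComplex.moduleCat_exact_iff _).2 fun x hx => by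
    obtain ⟨c, hc⟩ := hker x hx
    exact ⟨c, (hG c).trans hc⟩
  obtain ⟨w, hw⟩ := ((exact_sec hV (S := S.map (cst Λ X)) (hS.map _)) z).1 hz
  refine ⟨fun j => (sec Λ V).map ((cst Λ X).map (q j)) w, hw.symm.trans ?_⟩
  show (sec Λ V).map ((cst Λ X).map G) w = _
  simp only [G, Functor.map_sum, Functor.map_comp, ModuleCat.hom_sum, LinearMap.sum_apply]
  rfl

theorem map_sec_cst_smul {M N : ModuleCat.{u + 1} Λ} (c : Λ) (f : M ⟶ N)
    (x : (sec Λ V).obj ((cst Λ X).obj M)) :
    (sec Λ V).map ((cst Λ X).map (c • f)) x = c • (sec Λ V).map ((cst Λ X).map f) x := by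
  rw [cst_map_smul, sec_map_smul]; rfl

theorem map_sec_cst_smul_id (c : Λ) {M : ModuleCat.{u + 1} Λ}
    (x : (sec Λ V).obj ((cst Λ X).obj M)) :
    (sec Λ V).map ((cst Λ X).map (c • 𝟙 M)) x = c • x := by
  rw [map_sec_cst_smul]; simp

theorem flat_sec_cst [IsNoetherianRing Λ] (hV : ProEtS.IsWC V) :
    Module.Flat Λ ((sec Λ V).obj (cstR Λ X)) := by
  refine Module.Flat.of_forall_isTrivialRelation fun {l f x} hfx => ?_
  let P : ModuleCat.{u + 1} Λ := ModuleCat.of Λ (Fin l → Λ)
  let q : Fin l → (P ⟶ ModuleCat.of Λ Λ) := fun i => ModuleCat.ofHom (LinearMap.proj i)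
  let e : Fin l → (ModuleCat.of Λ Λ ⟶ P) := fun i =>
    ModuleCat.ofHom (LinearMap.single Λ (fun _ => Λ) i)
  have he : ∀ i i', e i ≫ q i' = if i = i' then 𝟙 _ else 0 := fun i i' => by
    split_ifs with h
    · subst h; ext; exact Pi.single_eq_same (M := fun _ : Fin l => Λ) i 1
    · ext; exact Pi.single_eq_of_ne (M := fun _ : Fin l => Λ) (Ne.symm h) 1
  let A : P ⟶ ModuleCat.of Λ Λ := ∑ i, f i • q i
  obtain ⟨k, K, hK⟩ := Submodule.fg_iff_exists_fin_generating_family.1
    (IsNoetherian.noetherian (LinearMap.ker A.hom))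
  let g : Fin k → (ModuleCat.of Λ Λ ⟶ P) := fun j =>
    ModuleCat.ofHom (LinearMap.toSpanSingleton Λ _ (K j))
  have hKmem : ∀ j, A.hom (K j) = 0 := fun j =>
    LinearMap.mem_ker.1 (hK ▸ Submodule.subset_span ⟨j, rfl⟩)
  let z := ∑ i, (sec Λ V).map ((cst Λ X).map (e i)) (x i)
  obtain ⟨y, hy⟩ := exists_of_exact_cst hV g A
    (fun j => by
      ext
      show A.hom ((1 : Λ) • K j) = 0
      rw [map_smul, hKmem j, smul_zero])
    (fun v hv => by
      obtain ⟨c, hc⟩ := (Submodule.mem_span_range_iff_exists_fun Λ).1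
        (hK.symm ▸ (LinearMap.mem_ker.2 hv : v ∈ LinearMap.ker A.hom))
      exact ⟨c, hc⟩) z (by
      have hA : ∀ i, e i ≫ A = f i • 𝟙 _ := fun i => by
        simp [A, Preadditive.comp_sum, Linear.comp_smul, he]
      simp only [z, map_sum, ← ConcreteCategory.comp_apply, ← Functor.map_comp, hA,
        map_sec_cst_smul_id, hfx])
  refine ⟨k, fun i j => K j i, y, fun i => ?_, fun j => ?_⟩
  · have hgq : ∀ j, g j ≫ q i = K j i • 𝟙 _ := fun j => by
      ext
      show (1 : Λ) * K j i = K j i • (1 : Λ)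
      simp
    have h1 := congrArg ((sec Λ V).map ((cst Λ X).map (q i))) hy
    simp only [z, map_sum, ← ConcreteCategory.comp_apply, ← Functor.map_comp, hgq,
      map_sec_cst_smul_id, he] at h1
    rw [← h1]
    refine (Finset.sum_eq_single i (fun i' _ hi' => ?_) (by simp)).symm.trans rfl |> fun h => h ▸ ?_
    · simp [hi']
    · simp
  · have h2 := hKmem j
    simp only [A, ModuleCat.hom_sum, LinearMap.sum_apply] at h2
    exact h2

variable (I : Ideal Λ)

/-- the projection `Λ ⟶ Λ / I ^ n` -/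
noncomputable def mkQ (n : ℕ) : ModuleCat.of Λ Λ ⟶ (ProEtDC.quotTower Λ I).obj (op n) :=
  ModuleCat.ofHom (Submodule.mkQ (I ^ n • ⊤ : Submodule Λ Λ))

theorem mkQ_factor {n m : ℕ} (h : (op n : ℕᵒᵖ) ⟶ op m) :
    mkQ I n ≫ (ProEtDC.quotTower Λ I).map h = mkQ I m := by
  ext
  simp [mkQ, ProEtDC.quotTower, Submodule.factorPow]

theorem sec_mkQ_eq_zero_iff [IsNoetherianRing Λ] (hV : ProEtS.IsWC V) (n : ℕ)
    (x : (sec Λ V).obj (cstR Λ X)) :
    (sec Λ V).map ((cst Λ X).map (mkQ I n)) x = 0 ↔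
      x ∈ (I ^ n) • (⊤ : Submodule Λ ((sec Λ V).obj (cstR Λ X))) := by
  constructor
  · intro hx
    obtain ⟨k, g, hg⟩ := Submodule.fg_iff_exists_fin_generating_family.1
      (IsNoetherian.noetherian (I ^ n))
    have hg' : ∀ j, g j ∈ I ^ n := fun j => hg ▸ Submodule.subset_span ⟨j, rfl⟩
    obtain ⟨y, hy⟩ := exists_of_exact_cst hV (fun j => g j • 𝟙 (ModuleCat.of Λ Λ)) (mkQ I n)
      (fun j => by
        ext
        show Submodule.Quotient.mk (g j • (1 : Λ)) = 0
        exact (Submodule.Quotient.mk_eq_zero _).2 (Submodule.smul_mem_smul (hg' j) Submodule.mem_top))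
      (fun v hv => by
        have : (v : Λ) ∈ I ^ n := by
          have hv' : (v : Λ) ∈ (I ^ n • ⊤ : Submodule Λ Λ) :=
            (Submodule.Quotient.mk_eq_zero (I ^ n • ⊤ : Submodule Λ Λ)).1 hv
          simpa [smul_eq_mul] using hv'
        rw [← hg] at this
        obtain ⟨c, hc⟩ := (Submodule.mem_span_range_iff_exists_fun Λ).1 this
        exact ⟨c, by simpa [mul_comm] using hc⟩) x hx
    rw [hy]
    refine Submodule.sum_mem _ fun j _ => ?_
    rw [map_sec_cst_smul_id]
    exact Submodule.smul_mem_smul (hg' j) Submodule.mem_top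
  · intro hx
    refine Submodule.smul_induction_on hx (fun c hc m _ => ?_) fun a b ha hb => by
      rw [map_add, ha, hb, add_zero]
    have : c • mkQ I n = 0 := by
      ext
      show Submodule.Quotient.mk (c • (1 : Λ)) = 0
      exact (Submodule.Quotient.mk_eq_zero _).2 (Submodule.smul_mem_smul hc Submodule.mem_top)
    rw [map_smul, ← LinearMap.smul_apply, ← ModuleCat.hom_smul, ← sec_map_smul, ← cst_map_smul, this]
    simp

theorem sec_mkQ_surjective (hV : ProEtS.IsWC V) (n : ℕ) :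
    Function.Surjective ((sec Λ V).map ((cst Λ X).map (mkQ I n))) := by
  have : Epi (mkQ I n) := (ModuleCat.epi_iff_surjective _).2 (Submodule.mkQ_surjective _)
  exact sec_surjective Λ hV _

end Flat

section Extend

variable {r : ℕ} (a : Fin r → Λ)

/-- words in `r` letters index a power of the constant sheaf -/
noncomputable abbrev Pow : EtModW.ModP Λ X := ∏ᶜ fun _ : List (Fin r) => cstR Λ X

/-- partial sums -/
noncomputable def pE : ℕ → (Pow (Λ := Λ) (X := X) (r := r) ⟶ cstR Λ X)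
  | 0 => 0
  | n + 1 => Pi.π (fun _ : List (Fin r) => cstR Λ X) [] + ∑ i, a i •
      ((Pi.lift fun l => Pi.π (fun _ : List (Fin r) => cstR Λ X) (l ++ [i])) ≫ pE n)

theorem sec_pE (V : X.ProEt) (n : ℕ) (x : (sec Λ V).obj (Pow (Λ := Λ) (X := X) (r := r))) :
    (sec Λ V).map (pE a n) x =
      psum a n fun l => (sec Λ V).map (Pi.π (fun _ : List (Fin r) => cstR Λ X) l) x := by
  induction n generalizing x with
  | zero => simp [pE, psum]
  | succ n ih =>
    rw [pE, psum, Functor.map_add, Functor.map_sum]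
    simp only [sec_map_smul, Functor.map_comp, ModuleCat.hom_add, ModuleCat.hom_sum,
      ModuleCat.hom_smul, ModuleCat.hom_comp, LinearMap.add_apply, LinearMap.sum_apply,
      LinearMap.smul_apply, LinearMap.comp_apply]
    congr 1
    refine Finset.sum_congr rfl fun i _ => congrArg (a i • ·) ((ih _).trans ?_)
    congr 1
    funext l
    rw [← ConcreteCategory.comp_apply, ← Functor.map_comp, Pi.lift_π]

local notation "II" => Ideal.span (Set.range a)

theorem pE_succ_mkQ [IsNoetherianRing Λ] {m n : ℕ} (h : m ≤ n) :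
    pE (X := X) a (n + 1) ≫ (cst Λ X).map (mkQ II m) = pE a n ≫ (cst Λ X).map (mkQ II m) := by
  refine hom_ext_of_wc _ _ fun V hV x => ?_
  rw [← sub_eq_zero]
  simp only [Functor.map_comp, ConcreteCategory.comp_apply]
  rw [← map_sub, sec_mkQ_eq_zero_iff II hV, sec_pE, sec_pE]
  exact Submodule.smul_mono_left (Ideal.pow_le_pow_right h) (psum_succ_sub_mem n _)

theorem pE_mkQ [IsNoetherianRing Λ] {m n : ℕ} (h : m ≤ n) :
    pE (X := X) a n ≫ (cst Λ X).map (mkQ II m) = pE a m ≫ (cst Λ X).map (mkQ II m) := by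
  induction h with
  | refl => rfl
  | @step n hn ih => rw [pE_succ_mkQ a hn, ih]

variable [IsNoetherianRing Λ]

/-- the summation morphism to the completion -/
noncomputable def toHat : Pow (Λ := Λ) (X := X) (r := r) ⟶ ProEtDC.lambdaHat Λ X II :=
  limit.lift _ (Cone.mk (Pow (Λ := Λ) (X := X) (r := r))
    { app := fun n : ℕᵒᵖ => pE a n.unop ≫ (cst Λ X).map (mkQ II n.unop)
      naturality := fun (n m : ℕᵒᵖ) h => by
        dsimp
        rw [Category.id_comp, Category.assoc, ← Functor.map_comp, mkQ_factor II h]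
        exact (pE_mkQ a (leOfHom h.unop)).symm })

theorem toHat_π (n : ℕ) : toHat (X := X) a ≫ limit.π _ (op n) = pE a n ≫ (cst Λ X).map (mkQ II n) :=
  limit.lift_π (F := ProEtDC.quotTower Λ II ⋙ cst Λ X) _ _

theorem toHat_surjective {V : X.ProEt} (hV : ProEtS.IsWC V) :
    Function.Surjective ((sec Λ V).map (toHat (X := X) a)) := by
  intro z
  choose h hh using fun n =>
    sec_mkQ_surjective II hV (X := X) n ((sec Λ V).map (limit.π (ProEtDC.quotTower Λ II ⋙ cst Λ X) (op n)) z)
  let h' : ℕ → (sec Λ V).obj (cstR Λ X) := fun n => if n = 0 then 0 else h n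
  have h0 : ∀ y : (sec Λ V).obj (cstR Λ X), (sec Λ V).map ((cst Λ X).map (mkQ II 0)) y = 0 := fun y =>
    (sec_mkQ_eq_zero_iff II hV 0 y).2 (by simp)
  have hh' : ∀ n, (sec Λ V).map ((cst Λ X).map (mkQ II n)) (h' n) =
      (sec Λ V).map (limit.π (ProEtDC.quotTower Λ II ⋙ cst Λ X) (op n)) z := fun n => by
    rcases eq_or_ne n 0 with rfl | hn
    · rw [← hh 0, h0, h0]
    · simp only [h', if_neg hn, hh]
  obtain ⟨c, hc⟩ := exists_psum_eq (a := a) h' (by simp [h']) (fun n => by
    rw [← sec_mkQ_eq_zero_iff II hV, map_sub, sub_eq_zero, hh' n]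
    let g : (op (n + 1) : ℕᵒᵖ) ⟶ op n := (homOfLE (Nat.le_succ n)).op
    have e1 : (sec Λ V).map ((cst Λ X).map ((ProEtDC.quotTower Λ II).map g))
        ((sec Λ V).map ((cst Λ X).map (mkQ II (n + 1))) (h' (n + 1))) =
        (sec Λ V).map ((cst Λ X).map (mkQ II n)) (h' (n + 1)) := by
      rw [← mkQ_factor II g, Functor.map_comp, Functor.map_comp]
      rfl
    rw [← e1, hh' (n + 1)]
    have e2 := congrArg (fun k => (sec Λ V).map k z) (limit.w (ProEtDC.quotTower Λ II ⋙ cst Λ X) g)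
    simp only [Functor.map_comp] at e2
    exact e2)
  obtain ⟨x, hx⟩ := (bijective_sec_fan (V := V) fun _ : List (Fin r) => cstR Λ X).2 c
  refine ⟨x, ?_⟩
  have hl := (Types.isLimit_iff _).1 ⟨isLimitOfPreserves (sec Λ V ⋙ forget (ModuleCat.{u + 1} Λ))
    (limit.isLimit (ProEtDC.quotTower Λ II ⋙ cst Λ X))⟩
  obtain ⟨_, -, hu⟩ := hl (fun j => (sec Λ V).map (limit.π (ProEtDC.quotTower Λ II ⋙ cst Λ X) j) z)
    (fun {i j} g => by
      show ((sec Λ V).map ((ProEtDC.quotTower Λ II ⋙ cst Λ X).map g)) (((sec Λ V).map (limit.π _ i)) z) = _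
      rw [← ConcreteCategory.comp_apply, ← Functor.map_comp, limit.w])
  refine (hu _ fun ⟨n⟩ => ?_).trans (hu z fun j => rfl).symm
  show (sec Λ V).map (limit.π _ (op n)) ((sec Λ V).map (toHat a) x) = _
  rw [← ConcreteCategory.comp_apply, ← Functor.map_comp, toHat_π, Functor.map_comp,
    ConcreteCategory.comp_apply, sec_pE]
  rw [show (fun l => (sec Λ V).map (Pi.π (fun _ : List (Fin r) => cstR Λ X) l) x) = c from hx, hc]
  exact hh' n

instance epi_toHat : Epi (toHat (X := X) a) := epi_of_wc _ fun _ hV => toHat_surjective a hV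

/-- the "one" from the constant sheaf to the completion -/
noncomputable def oneHat : cstR Λ X ⟶ ProEtDC.lambdaHat Λ X II :=
  (Pi.lift fun l : List (Fin r) => if l = [] then 𝟙 (cstR Λ X) else 0) ≫ toHat a

variable {F : EtModW.ModP Λ X}

/-- every map from the constant sheaf to a derived complete sheaf extends to the completion -/
theorem exists_extend (hF : ProEtDC.IsDCSheaf Λ II F) (φ : cstR Λ X ⟶ F) :
    ∃ Φ : ProEtDC.lambdaHat Λ X II ⟶ F, oneHat a ≫ Φ = φ := by
  have hdc : ∀ (V : X.ProEt), ProEtS.IsWC V → ∀ k, DCM (a k) ((sec Λ V).obj F) := fun V hV k =>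
    (isDCSheaf_iff _ F).1 hF (a k) (Ideal.subset_span ⟨k, rfl⟩) V hV
  let π' := Pi.π fun _ : List (Fin r) => F
  let D : (∏ᶜ fun _ : List (Fin r) => F) ⟶ ∏ᶜ fun _ : List (Fin r) => F :=
    Pi.lift fun l => π' l - ∑ i, a i • π' (i :: l)
  have hD : ∀ (V : X.ProEt) x, (fun l => (sec Λ V).map (π' l) ((sec Λ V).map D x)) =
      delW _ a fun l => (sec Λ V).map (π' l) x := fun V x => funext fun l => by
    rw [← ConcreteCategory.comp_apply, ← Functor.map_comp, Pi.lift_π, delW_apply, Functor.map_sub,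
      Functor.map_sum]
    simp [sec_map_smul, LinearMap.sum_apply]
    rfl
  have : IsIso D := isIso_of_wc D fun V hV => by
    have hb := bijective_sec_fan (V := V) fun _ : List (Fin r) => F
    have h2 := (delW_bijective (hdc V hV)).comp hb
    rw [show (delW _ a ∘ fun x l => (sec Λ V).map (π' l) x) =
      (fun x l => (sec Λ V).map (π' l) x) ∘ (sec Λ V).map D from funext fun x => (hD V x).symm] at h2
    exact ⟨h2.1.of_comp, (Function.Bijective.of_comp_iff' hb _).1 h2 |>.2⟩
  let ψ : Pow (Λ := Λ) (X := X) (r := r) ⟶ F :=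
    Limits.Pi.map (fun _ : List (Fin r) => φ) ≫ inv D ≫ π' []
  have hψ : kernel.ι (toHat a) ≫ ψ = 0 := hom_ext_of_wc _ _ fun V hV x => by
    let y := (sec Λ V).map (kernel.ι (toHat a)) x
    have hy : ∀ n, psum a n (fun l => (sec Λ V).map (Pi.π (fun _ : List (Fin r) => cstR Λ X) l) y) ∈
        (II ^ n) • (⊤ : Submodule Λ _) := fun n => by
      rw [← sec_pE, ← sec_mkQ_eq_zero_iff II hV, ← ConcreteCategory.comp_apply, ← Functor.map_comp,
        ← toHat_π]
      simp only [y, ← ConcreteCategory.comp_apply, ← Functor.map_comp, kernel.condition_assoc,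
        zero_comp]
      simp
    have := flat_sec_cst (V := V) (X := X) (Λ := Λ) hV
    have h0 := wsum_eq_zero a (hdc V hV) ((sec Λ V).map φ).hom _ hy
    have key : ∀ y, (sec Λ V).map ψ y = wsum (hdc V hV) fun l =>
        ((sec Λ V).map φ) ((sec Λ V).map (Pi.π (fun _ : List (Fin r) => cstR Λ X) l) y) := fun y => by
      let w := (sec Λ V).map (inv D) ((sec Λ V).map (Limits.Pi.map fun _ : List (Fin r) => φ) y)
      have hw : delW _ a (fun l => (sec Λ V).map (π' l) w) =
          fun l => ((sec Λ V).map φ) ((sec Λ V).map (Pi.π (fun _ : List (Fin r) => cstR Λ X) l) y) := by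
        rw [← hD]
        funext l
        simp only [w, ← ConcreteCategory.comp_apply, ← Functor.map_comp, Category.assoc,
          IsIso.inv_hom_id_assoc, π', Limits.Pi.map_π]
      have e := (LinearEquiv.ofBijective _ (delW_bijective (hdc V hV))).symm_apply_eq.2 hw.symm
      refine Eq.trans ?_ (congrFun e []).symm
      simp only [ψ, Functor.map_comp, ConcreteCategory.comp_apply]
      rfl
    rw [Functor.map_comp, ConcreteCategory.comp_apply, key, h0]
    simp
  refine ⟨(Abelian.epiIsCokernelOfKernel _ (kernelIsKernel (toHat a))).desc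
    (CokernelCofork.ofπ ψ hψ), ?_⟩
  rw [oneHat, Category.assoc, show toHat a ≫ _ = ψ from
    (Abelian.epiIsCokernelOfKernel _ (kernelIsKernel (toHat a))).fac (CokernelCofork.ofπ ψ hψ)
      WalkingParallelPair.one]
  let δ : F ⟶ ∏ᶜ fun _ : List (Fin r) => F :=
    Pi.lift fun l : List (Fin r) => if l = [] then 𝟙 F else 0
  have hδ : δ ≫ inv D = δ := by
    rw [IsIso.comp_inv_eq]
    refine limit.hom_ext fun ⟨l⟩ => ?_
    show δ ≫ π' l = (δ ≫ D) ≫ π' l
    rw [Category.assoc, show D ≫ π' l = π' l - ∑ i, a i • π' (i :: l) from Pi.lift_π _ _,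
      Preadditive.comp_sub, Preadditive.comp_sum]
    simp [δ, π', Linear.comp_smul]
  have hcomm : (Pi.lift fun l : List (Fin r) => if l = [] then 𝟙 (cstR Λ X) else 0) ≫
      Limits.Pi.map (fun _ : List (Fin r) => φ) = φ ≫ δ := by
    refine limit.hom_ext fun ⟨l⟩ => ?_
    simp only [δ, Category.assoc]
    rw [show limit.π _ (⟨l⟩ : Discrete (List (Fin r))) = π' l from rfl]
    simp only [π', Limits.Pi.map_π, Pi.lift_π_assoc, Pi.lift_π]
    split_ifs <;> simp
  simp only [ψ]
  rw [reassoc_of% hcomm, reassoc_of% hδ]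
  simp [δ, π']

end Extend

end Groth.Agent.ProEtDCLib
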