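import Mathlib
import Groth.Agent.ProEtDCLib.Complete

/-!
Finite generation of locally constant sheaves of finite presentation by global sections, on a
w-contractible affine, and the lift to derived complete sheaves.
-/

universe u

open CategoryTheory CategoryTheory.Limits AlgebraicGeometry Opposite MorphismProperty

namespace Groth.Agent.ProEtDCLib

set_option backward.isDefEq.respectTransparency.types false
set_option backward.isDefEq.respectTransparency false

variable {Λ : Type (u + 1)} [CommRing Λ] {X : Scheme.{u}}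

theorem exists_glue (F : EtModW.ModP Λ X) (U : X.ProEt) {ι : Type u} (W : ι → U.left.Opens)
    (hd : Pairwise fun i j => Disjoint (W i : Set U.left) (W j)) (hc : ∀ x, ∃ i, x ∈ W i)
    (t : ∀ i, (sec Λ (ProEtLib.opObj U (W i))).obj F) :
    ∃ t₀ : (sec Λ U).obj F, ∀ i, F.obj.map (ProEtLib.opHom U (W i)).op t₀ = t i := by
  let F' := (sheafCompose (Scheme.ProEt.topology X) (forget (ModuleCat.{u + 1} Λ))).obj F
  have hF := Presieve.isSheafFor_iff_generate _ |>.2
    (((isSheaf_iff_isSheaf_of_type _ _).1 F'.2) _ (ProEtLib.opens_mem_topology U W hc))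
  obtain ⟨t₀, ht₀, -⟩ := (Presieve.isSheafFor_arrows_iff F'.obj _).1 hF t fun i j Z a b hab => by
    by_cases hij : i = j
    · subst hij
      have h1 : a.left ≫ (W i).ι = b.left ≫ (W i).ι := congrArg (fun f => f.left) hab
      have h2 : a = b := MorphismProperty.Over.Hom.ext ((cancel_mono (W i).ι).1 h1)
      rw [h2]
    · have : IsEmpty Z.left := ⟨fun z => by
        have h1 : a.left ≫ (W i).ι = b.left ≫ (W j).ι := congrArg (fun f => f.left) hab
        have h2 : ((a.left.base z).1 : U.left) = (b.left.base z).1 :=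
          congrArg (fun f : Z.left ⟶ U.left => f.base z) h1
        exact Set.disjoint_left.1 (hd hij) (a.left.base z).2 (h2 ▸ (b.left.base z).2)⟩
      exact (ProEtLib.subsingleton_of_isEmpty F' Z).elim _ _
  exact ⟨t₀, ht₀⟩

section Local

variable {F : EtModW.ModP Λ X} {U : X.ProEt} {M : ModuleCat.{u + 1} Λ}
  (e : F.over U ≅ (constantSheaf ((Scheme.ProEt.topology X).over U) (ModuleCat.{u + 1} Λ)).obj M)

/-- the sections of a constant sheaf given by its value -/
noncomputable def eSec {Y : X.ProEt} (c : Y ⟶ U) : M ⟶ (sec Λ Y).obj F :=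
  (toSheafify ((Scheme.ProEt.topology X).over U) ((Functor.const _).obj M)).app (op (Over.mk c)) ≫
    e.inv.hom.app (op (Over.mk c))

theorem eSec_map {Y Y' : X.ProEt} (g : Y' ⟶ Y) (c : Y ⟶ U) (m : M) :
    F.obj.map g.op (eSec e c m) = eSec e (g ≫ c) m := by
  let g' : Over.mk (g ≫ c) ⟶ Over.mk c := Over.homMk g
  have h1 := NatTrans.naturality_apply e.inv.hom g'.op
    ((toSheafify ((Scheme.ProEt.topology X).over U) ((Functor.const _).obj M)).app (op (Over.mk c)) m)
  have h2 := NatTrans.naturality_apply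
    (toSheafify ((Scheme.ProEt.topology X).over U) ((Functor.const (Over U)ᵒᵖ).obj M)) g'.op m
  refine h1.symm.trans ?_
  exact congrArg _ h2.symm

theorem eq_zero_of_kill {Z : EtModW.ModP Λ X} (β : F ⟶ Z) {W : X.ProEt} (c : W ⟶ U)
    {n : ℕ} (g : Fin n → M) (hg : Submodule.span Λ (Set.range g) = ⊤)
    (hk : ∀ l, (sec Λ W).map β (eSec e c (g l)) = 0) {Y : X.ProEt} (h : Y ⟶ W)
    (q : (sec Λ Y).obj F) : (sec Λ Y).map β q = 0 := by
  have hk' : ∀ m, (sec Λ W).map β (eSec e c m) = 0 := fun m => by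
    have : ((sec Λ W).map β).hom ∘ₗ (eSec e c).hom = 0 := LinearMap.ext_on_range hg hk
    exact LinearMap.congr_fun this m
  let p : Over U := Over.mk (h ≫ c)
  have : Presheaf.IsLocallySurjective ((Scheme.ProEt.topology X).over U)
      (toSheafify ((Scheme.ProEt.topology X).over U) ((Functor.const _).obj M)) := inferInstance
  have hS := Presheaf.imageSieve_mem ((Scheme.ProEt.topology X).over U)
    (toSheafify ((Scheme.ProEt.topology X).over U) ((Functor.const _).obj M)) (U := op p)
    (e.hom.hom.app (op p) q)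
  rw [GrothendieckTopology.mem_over_iff] at hS
  have hZ := (((isSheaf_iff_isSheaf_of_type _ _).1
    ((sheafCompose _ (forget (ModuleCat.{u + 1} Λ))).obj Z).2) _ hS)
  refine hZ.isSeparatedFor.ext fun Y' f hf => ?_
  rw [Sieve.overEquiv_iff] at hf
  obtain ⟨m, hm⟩ := hf
  let k : Over.mk (f ≫ h ≫ c) ⟶ p := Over.homMk f
  have h1 : F.obj.map f.op q = eSec e (f ≫ h ≫ c) m := by
    show _ = e.inv.hom.app (op (Over.mk (f ≫ h ≫ c)))
      ((toSheafify ((Scheme.ProEt.topology X).over U) ((Functor.const _).obj M)).app _ m)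
    erw [hm]
    erw [← NatTrans.naturality_apply e.hom.hom]
    exact (LinearMap.congr_fun (congrArg (fun α => ((α : F.over U ⟶ F.over U).hom.app
      (op (Over.mk (f ≫ h ≫ c)))).hom) e.hom_inv_id) (F.obj.map f.op q)).symm
  show Z.obj.map f.op ((sec Λ Y).map β q) = Z.obj.map f.op 0
  rw [map_zero]
  refine (NatTrans.naturality_apply β.hom f.op q).symm.trans ?_
  rw [h1, ← Category.assoc, ← eSec_map e (f ≫ h) c m]
  refine (NatTrans.naturality_apply β.hom (f ≫ h).op _).trans ?_
  exact (congrArg _ (hk' m)).trans (map_zero _)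

end Local

theorem exists_gen_sections [IsAffine X] (hX : EtPBC.IsWContractible ↥(Γ(X, ⊤)))
    (Q : EtModW.ModP Λ X) (hq : EtModW.IsFPLocConstP Λ Q) :
    ∃ (t : ℕ) (s : Fin t → (sec Λ (ProEtS.topP X)).obj Q), ∀ (Z : EtModW.ModP Λ X) (β : Q ⟶ Z),
      (∀ j, (sec Λ (ProEtS.topP X)).map β (s j) = 0) → β = 0 := by
  obtain ⟨ι, U, hU, hM⟩ := hq
  choose M iA iM hfp e using hM
  let T := ProEtS.topP X
  have : IsAffine T.left := inferInstanceAs (IsAffine X)
  obtain ⟨N, W, -, hd, hc, hW⟩ := ProEtLib.criterion_of_wContractible (U := T) hX _ hU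
  choose i c hc' using fun k => (Sieve.mem_ofArrows_iff _ _ _).1 (hW k)
  choose n g hg using fun k => Module.Finite.exists_fin (R := Λ) (M := M (i k))
  let W' : ULift.{u} (Fin N) → T.left.Opens := fun k => W k.down
  have hd' : Pairwise fun a b => Disjoint (W' a : Set T.left) (W' b) :=
    fun a b hab => hd fun h => hab (ULift.ext _ _ h)
  have hcov : ∀ x, ∃ k, x ∈ W' k := fun x => by
    obtain ⟨k, hk⟩ := Set.mem_iUnion.1 (hc.symm ▸ Set.mem_univ x)
    exact ⟨⟨k⟩, hk⟩
  choose s hs using fun p : Σ k : Fin N, Fin (n k) => exists_glue Q T W' hd' hcov fun k =>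
    if h : p.1 = k.down then
      eSec (e (i k.down)).some (c k.down) (g k.down (Fin.cast (by rw [h]) p.2)) else 0
  refine ⟨Fintype.card (Σ k : Fin N, Fin (n k)), fun j => s ((Fintype.equivFin _).symm j),
    fun Z β hβ => ?_⟩
  ext Y₀ q
  obtain ⟨Y₀⟩ := Y₀
  have hpb := (Scheme.ProEt.topology X).pullback_stable (isTerminalTopP.from Y₀)
    (ProEtLib.opens_mem_topology T W' hcov)
  have hZ := (((isSheaf_iff_isSheaf_of_type _ _).1
    ((sheafCompose _ (forget (ModuleCat.{u + 1} Λ))).obj Z).2) _ hpb)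
  refine hZ.isSeparatedFor.ext fun Y' f hf => ?_
  obtain ⟨V, a, _, ⟨k⟩, ha⟩ := hf
  show Z.obj.map f.op ((sec Λ Y₀).map β q) = Z.obj.map f.op 0
  rw [map_zero]
  refine (NatTrans.naturality_apply β.hom f.op q).symm.trans ?_
  refine eq_zero_of_kill (e (i k.down)).some β (c k.down) (g k.down) (hg k.down) (fun l => ?_) a _
  have h1 : Q.obj.map (ProEtLib.opHom T (W' k)).op (s ⟨k.down, l⟩) =
      eSec (e (i k.down)).some (c k.down) (g k.down l) := by
    rw [hs, dif_pos rfl]; rfl
  rw [← h1]
  refine (NatTrans.naturality_apply β.hom _ _).trans ?_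
  have h2 := hβ (Fintype.equivFin _ ⟨k.down, l⟩)
  simp only [Equiv.symm_apply_apply] at h2
  exact (congrArg _ h2).trans (map_zero _)

variable {r : ℕ} (a : Fin r → Λ)

theorem DCS.biproduct {f : Λ} {t : ℕ} (F : Fin t → EtModW.ModP Λ X) (h : ∀ j, DCS f (F j)) :
    DCS f (⨁ F) := by
  intro V hV
  let p := fun j => ((sec Λ V).map (biproduct.π F j)).hom
  let q := fun j => ((sec Λ V).map (biproduct.ι F j)).hom
  have hpq : ∀ x, x = ∑ j, q j (p j x) := fun x => by
    have := congrArg (fun k => (sec Λ V).map k x) (biproduct.total (f := F))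
    simp only [Functor.map_sum, Functor.map_comp, CategoryTheory.Functor.map_id, ModuleCat.hom_sum,
      LinearMap.sum_apply, ModuleCat.id_apply] at this
    exact this.symm
  refine ⟨fun x y hxy => funext fun n => ?_, fun y => ?_⟩
  · rw [hpq (x n), hpq (y n)]
    refine Finset.sum_congr rfl fun j _ => congrArg _ (congrFun ((h j V hV).1
      (a₁ := fun k => p j (x k)) (a₂ := fun k => p j (y k)) ?_) n)
    rw [delta_map f (p j) x, delta_map f (p j) y, hxy]
  · choose x hx using fun j => (h j V hV).2 fun n => p j (y n)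
    refine ⟨fun n => ∑ j, q j (x j n), funext fun n => ?_⟩
    conv_rhs => rw [hpq (y n)]
    simp only [delta, Finset.smul_sum, ← map_smul, ← Finset.sum_sub_distrib, ← map_sub]
    exact Finset.sum_congr rfl fun j _ => congrArg _ (congrFun (hx j) n)

theorem exists_epi [IsNoetherianRing Λ] [IsAffine X] (hX : EtPBC.IsWContractible ↥(Γ(X, ⊤)))
    (F : EtModW.ModP Λ X) (hF : ProEtDC.IsDCSheaf Λ (Ideal.span (Set.range a)) F)
    (hq : EtModW.IsFPLocConstP Λ (cokernel (ProEtDC.gensMap Λ a F))) :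
    ∃ (t : ℕ) (φ : (⨁ fun _ : Fin t => ProEtDC.lambdaHat Λ X (Ideal.span (Set.range a))) ⟶ F),
      Epi φ := by
  let T := ProEtS.topP X
  have : IsAffine T.left := inferInstanceAs (IsAffine X)
  have hT : ProEtS.IsWC T := ProEtLib.isWC_of_criterion (ProEtLib.criterion_of_wContractible hX)
  obtain ⟨t, sQ, hsQ⟩ := exists_gen_sections hX _ hq
  choose s hs using fun j => sec_surjective Λ hT (cokernel.π (ProEtDC.gensMap Λ a F)) (sQ j)
  let adj := constantSheafAdj (Scheme.ProEt.topology X) (ModuleCat.{u + 1} Λ)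
    (isTerminalTopP (X := X))
  let φ₀ : Fin t → (cstR Λ X ⟶ F) := fun j =>
    (adj.homEquiv _ _).symm (ModuleCat.ofHom (LinearMap.toSpanSingleton Λ _ (s j)))
  choose φ hφ using fun j => exists_extend a hF (φ₀ j)
  let Φ := biproduct.desc φ
  have himg : ∀ j, s j = (sec Λ T).map Φ ((sec Λ T).map
      (oneHat a ≫ biproduct.ι (fun _ : Fin t => ProEtDC.lambdaHat Λ X (Ideal.span (Set.range a))) j)
      (adj.unit.app (ModuleCat.of Λ Λ) (1 : Λ))) := fun j => by
    rw [← ConcreteCategory.comp_apply ((sec Λ T).map _), ← Functor.map_comp, Category.assoc,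
      biproduct.ι_desc, hφ]
    have h := LinearMap.congr_fun (congrArg ModuleCat.Hom.hom
      ((adj.homEquiv_unit (ModuleCat.of Λ Λ) F (φ₀ j)).symm.trans (Equiv.apply_symm_apply _ _))) 1
    exact ((one_smul Λ (s j)).symm.trans h.symm)
  refine ⟨t, Φ, Abelian.epi_of_cokernel_π_eq_zero _ ?_⟩
  have hG : ProEtDC.IsDCSheaf Λ (Ideal.span (Set.range a)) (cokernel Φ) :=
    ((weakSerre _).1 _ _ Φ ((isDCSheaf_iff _ _).2 fun f hf =>
      DCS.biproduct _ fun _ => dcs_lambdaHat _ hf) hF).2
  let c := cokernel.π Φ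
  let cG := cokernel.π (ProEtDC.gensMap Λ a (cokernel Φ))
  have hzero : ProEtDC.gensMap Λ a F ≫ c ≫ cG = 0 := by
    refine biproduct.hom_ext' _ _ fun k => ?_
    rw [comp_zero, biproduct.ι_desc_assoc, smulHom_eq, Linear.smul_comp, Category.id_comp,
      ← Linear.comp_smul]
    have h0 : a k • cG = 0 := by
      have := cokernel.condition (ProEtDC.gensMap Λ a (cokernel Φ))
      rw [← Category.id_comp cG, ← Linear.smul_comp, ← smulHom_eq,
        ← biproduct.ι_desc (fun k : Fin r => ProEtDC.smulHom Λ (cokernel Φ) (a k)) k, Category.assoc,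
        this, comp_zero]
    rw [h0, comp_zero]
  have hβ := hsQ _ (cokernel.desc _ _ hzero) fun j => by
    rw [← hs j, ← ConcreteCategory.comp_apply, ← Functor.map_comp, cokernel.π_desc, himg,
      ← ConcreteCategory.comp_apply, ← Functor.map_comp, cokernel.condition_assoc, zero_comp]
    simp
  have hc0 : c ≫ cG = 0 := by
    rw [← cokernel.π_desc (ProEtDC.gensMap Λ a F) _ hzero, hβ, comp_zero]
  have hcG : cG = 0 := by rw [← cancel_epi c, hc0, comp_zero]
  have hz := isZero_of_modGensIsZero a _ hG (Abelian.epi_of_cokernel_π_eq_zero _ hcG)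
  exact hz.eq_of_tgt _ _

end Groth.Agent.ProEtDCLib
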